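import Mathlib
import Cfsg.Agent.Lib.Helper51.Card
import Cfsg.Agent.Lib.Helper22.CoprimeP

set_option autoImplicit false

namespace Cfsg.Agent.Lib.Helper76

open Subgroup Cfsg.Agent.Lib.Helper22

variable {G : Type*} [Group G]

/-- `|HK : H| = |K : H ∩ K|` for `K` normal. -/
theorem relIndex_sup_of_normal [Finite G] (H K : Subgroup G) [K.Normal] :
    H.relIndex (H ⊔ K) = H.relIndex K := by
  have h1 := Cfsg.Agent.Lib.Helper51.card_sup_mul_card_inf_of_normal H K
  have h2 : Nat.card H * H.relIndex (H ⊔ K) = Nat.card ↥(H ⊔ K) := by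
    rw [← relIndex_bot_left, ← relIndex_bot_left]
    exact relIndex_mul_relIndex ⊥ H (H ⊔ K) bot_le le_sup_left
  have h3 : Nat.card ↥(H ⊓ K) * H.relIndex K = Nat.card K := by
    rw [← inf_relIndex_right H K, ← relIndex_bot_left, ← relIndex_bot_left]
    exact relIndex_mul_relIndex ⊥ (H ⊓ K) K bot_le inf_le_right
  have h4 : (Nat.card H * Nat.card ↥(H ⊓ K)) * H.relIndex (H ⊔ K) =
      (Nat.card H * Nat.card ↥(H ⊓ K)) * H.relIndex K := by
    calc (Nat.card H * Nat.card ↥(H ⊓ K)) * H.relIndex (H ⊔ K)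
        = (Nat.card H * H.relIndex (H ⊔ K)) * Nat.card ↥(H ⊓ K) := by ring
      _ = Nat.card H * Nat.card K := by rw [h2, h1]
      _ = (Nat.card H * Nat.card ↥(H ⊓ K)) * H.relIndex K := by rw [← h3]; ring
  exact Nat.eq_of_mul_eq_mul_left (Nat.mul_pos Nat.card_pos Nat.card_pos) h4

theorem relIndex_dvd_index_of_normal_right [Finite G] (H K : Subgroup G) [K.Normal] :
    H.relIndex K ∣ H.index := by
  rw [← relIndex_sup_of_normal]
  exact relIndex_dvd_index_of_le le_sup_left

/-- A subgroup of index prime to `p` contains a Sylow `p`-subgroup. -/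
theorem exists_sylow_le_of_not_dvd_index [Finite G] {p : ℕ} [Fact p.Prime] (H : Subgroup G)
    (h : ¬ p ∣ H.index) : ∃ P : Sylow p G, (P : Subgroup G) ≤ H := by
  let S : Sylow p H := default
  have h1 : IsPGroup p ((S : Subgroup H).map H.subtype) := S.2.map _
  have h2 : ¬ p ∣ ((S : Subgroup H).map H.subtype).index := by
    rw [index_map_subtype]
    exact Nat.Prime.not_dvd_mul Fact.out S.not_dvd_index h
  exact ⟨h1.toSylow h2, map_subtype_le _⟩

/-- Criterion for being a Sylow subgroup of `K` in ambient form. -/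
theorem isSylowIn_of_not_dvd_relIndex [Finite G] {p : ℕ} [Fact p.Prime] (Q K : Subgroup G)
    (hQK : Q ≤ K) (hQ : IsPGroup p Q) (h : ¬ p ∣ Q.relIndex K) : IsSylowIn p Q K := by
  have h1 : IsPGroup p (Q.subgroupOf K) := hQ.comap_of_injective _ K.subtype_injective
  refine ⟨h1.toSylow h, ?_⟩
  exact map_subgroupOf_eq_of_le hQK

theorem IsSylowIn.not_dvd_relIndex [Finite G] {p : ℕ} [Fact p.Prime] {Q K : Subgroup G}
    (h : IsSylowIn p Q K) : ¬ p ∣ Q.relIndex K := by
  obtain ⟨S, rfl⟩ := h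
  have : ((S : Subgroup K).map K.subtype).relIndex K = (S : Subgroup K).index := by
    rw [relIndex, subgroupOf, comap_map_eq_self_of_injective K.subtype_injective]
  rw [this]
  exact S.not_dvd_index

/-- The intersection of a Sylow subgroup with a normal subgroup is a Sylow subgroup of it. -/
theorem isSylowIn_inf_normal [Finite G] {p : ℕ} [Fact p.Prime] (P : Sylow p G) (K : Subgroup G)
    [K.Normal] : IsSylowIn p ((P : Subgroup G) ⊓ K) K := by
  apply isSylowIn_of_not_dvd_relIndex _ _ inf_le_right (P.2.to_le inf_le_left)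
  rw [inf_relIndex_right]
  exact fun h => P.not_dvd_index (h.trans (relIndex_dvd_index_of_normal_right _ K))

/-- If `HK` has index prime to `p` and `H ∩ K` has index prime to `p` in the normal subgroup `K`, then `H`
has index prime to `p`. -/
theorem not_dvd_index_of_sup [Finite G] {p : ℕ} [Fact p.Prime] (H K : Subgroup G) [K.Normal]
    (h1 : ¬ p ∣ (H ⊔ K).index) (h2 : ¬ p ∣ H.relIndex K) : ¬ p ∣ H.index := by
  rw [← relIndex_mul_index (le_sup_left : H ≤ H ⊔ K), relIndex_sup_of_normal]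
  exact Nat.Prime.not_dvd_mul Fact.out h2 h1

theorem exists_orderOf_eq_of_mem {p : ℕ} [Fact p.Prime] {Q : Subgroup G} (hQ : IsPGroup p Q) {x : G}
    (hx : x ∈ Q) : ∃ k : ℕ, orderOf x = p ^ k := by
  obtain ⟨k, hk⟩ := hQ ⟨x, hx⟩
  have hk' : x ^ (p ^ k) = 1 := by simpa using congrArg Subtype.val hk
  obtain ⟨j, _, hj⟩ := (Nat.dvd_prime_pow Fact.out).mp (orderOf_dvd_of_pow_eq_one hk')
  exact ⟨j, hj⟩

theorem isPGroup_zpowers_of_orderOf {p : ℕ} {x : G} {k : ℕ} (hx : orderOf x = p ^ k) :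
    IsPGroup p (zpowers x) := by
  rintro ⟨y, hy⟩
  obtain ⟨m, rfl⟩ := mem_zpowers_iff.mp hy
  refine ⟨k, ?_⟩
  apply Subtype.ext
  show (x ^ m) ^ (p ^ k) = 1
  rw [← zpow_natCast, ← zpow_mul, mul_comm, zpow_mul, zpow_natCast, ← hx, pow_orderOf_eq_one, one_zpow]

end Cfsg.Agent.Lib.Helper76
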