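import Mathlib
import Cfsg.Agent.Lib.Helper3.Table
import Cfsg.Agent.Lib.Helper76.Eigen
import Cfsg.Agent.Lib.Helper76.GaloisMaster

/-!
# Galois conjugates of characters

Field automorphisms of `ℂ` extending a given automorphism of a cyclotomic field; applying a ring
endomorphism of `ℂ` to a character gives a character; `g ↦ χ (g ^ k)` is an irreducible character
when `χ` is and `k` is prime to `|G|`.
-/

set_option autoImplicit false

namespace Cfsg.Agent.Lib.Helper76

open Cardinal IsAlgClosed Cfsg Cfsg.Agent.Lib.Helper3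
open scoped ComplexConjugate

/-- Two uncountable algebraically closed extensions of the same cardinality of a countable field are
isomorphic over it. -/
theorem exists_ringEquiv_of_isAlgClosed {R K L : Type} [Field R] [Field K] [Field L]
    [Algebra R K] [Algebra R L] [IsAlgClosed K] [IsAlgClosed L] (hR : #R ≤ ℵ₀) (hK : ℵ₀ < #K)
    (hKL : #K = #L) :
    ∃ e : K ≃+* L, ∀ r : R, e (algebraMap R K r) = algebraMap R L r := by
  obtain ⟨s, hs⟩ := exists_isTranscendenceBasis R K
  obtain ⟨t, ht⟩ := exists_isTranscendenceBasis R L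
  have hL : ℵ₀ < #L := hKL ▸ hK
  have h1 : #K = #s := cardinal_eq_cardinal_transcendence_basis_of_aleph0_lt' _ hs hR hK
  have h2 : #L = #t := cardinal_eq_cardinal_transcendence_basis_of_aleph0_lt' _ ht hR hL
  obtain ⟨e⟩ := Cardinal.eq.mp (h1.symm.trans (hKL.trans h2))
  let _ := isAlgClosure_of_transcendence_basis _ hs
  let _ := isAlgClosure_of_transcendence_basis _ ht
  let e' : Algebra.adjoin R (Set.range (Subtype.val : s → K)) ≃ₐ[R]
      Algebra.adjoin R (Set.range (Subtype.val : t → L)) :=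
    hs.1.aevalEquiv.symm.trans ((MvPolynomial.renameEquiv R e).trans ht.1.aevalEquiv)
  refine ⟨IsAlgClosure.equivOfEquiv K L e'.toRingEquiv, fun r => ?_⟩
  have h3 := IsAlgClosure.equivOfEquiv_algebraMap K L e'.toRingEquiv (algebraMap R _ r)
  have h4 : e'.toRingEquiv (algebraMap R _ r) = algebraMap R _ r := e'.commutes r
  rw [h4] at h3
  exact h3

/-- A field automorphism of `ℂ` raising all `n`-th roots of unity to the `k`-th power. -/
theorem exists_ringAut_complex (n : ℕ) (hn : 0 < n) (k : ℕ) (hk : k.Coprime n) :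
    ∃ τ : ℂ ≃+* ℂ, ∀ w : ℂ, w ^ n = 1 → τ w = w ^ k := by
  obtain ⟨K, _, _, _, σ₀, h1, -, h3⟩ := galois_master n hn
  obtain ⟨σ, hσ⟩ := h3 k hk
  have hR : #K ≤ ℵ₀ := by
    have := Algebra.IsAlgebraic.cardinalMk_le_max ℚ K
    simpa using this
  obtain ⟨e, he⟩ := @exists_ringEquiv_of_isAlgClosed K ℂ ℂ _ _ _ σ₀.toRingHom.toAlgebra
    σ.toRingHom.toAlgebra _ _ hR (by rw [mk_complex]; exact aleph0_lt_continuum) rfl
  refine ⟨e, fun w hw => ?_⟩
  obtain ⟨y, rfl, hy⟩ := h1 w hw
  exact (he y).trans (hσ y hy)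

/-- Applying a ring endomorphism of `ℂ` to a character gives a character. -/
theorem IsCharacter.map_ringHom {G : Type*} [Group G] {χ : G → ℂ} (h : IsCharacter G χ)
    (τ : ℂ →+* ℂ) : IsCharacter G (fun g => τ (χ g)) := by
  obtain ⟨n, ρ, rfl⟩ := h
  let ρ' : Representation ℂ G (Fin n → ℂ) :=
    { toFun := fun g => Matrix.toLin' ((LinearMap.toMatrix' (ρ g)).map τ)
      map_one' := by
        rw [map_one, LinearMap.toMatrix'_one, Matrix.map_one τ (map_zero τ) (map_one τ),
          Matrix.toLin'_one]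
        rfl
      map_mul' := by
        intro x y
        rw [map_mul, LinearMap.toMatrix'_mul, Matrix.map_mul, Matrix.toLin'_mul]
        rfl }
  refine ⟨n, ρ', ?_⟩
  ext g
  show LinearMap.trace ℂ _ (Matrix.toLin' ((LinearMap.toMatrix' (ρ g)).map τ)) = τ (ρ.character g)
  rw [Matrix.trace_toLin'_eq, ← AddMonoidHom.map_trace τ, Representation.character,
    ← Matrix.trace_toLin'_eq, Matrix.toLin'_toMatrix']

/-- Applying a ring endomorphism of `ℂ` to an irreducible character gives an irreducible character. -/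
theorem IsIrrCharacter.map_ringHom {G : Type*} [Group G] [Finite G] {χ : G → ℂ}
    (h : IsIrrCharacter G χ) (τ : ℂ →+* ℂ) : IsIrrCharacter G (fun g => τ (χ g)) := by
  classical
  let _ : Fintype G := Fintype.ofFinite G
  let _ : Fintype (IrrCharacter G) := Fintype.ofFinite _
  have hc : IsCharacter G χ := IsIrrCharacter.isCharacter h
  have hc' := IsCharacter.map_ringHom hc τ
  rw [isIrrCharacter_iff]
  refine ⟨hc', ?_⟩
  have h1 := classInner_irr_self h
  unfold classInner at h1 ⊢
  have h2 : ∀ g : G, τ (χ g) * conj (τ (χ g)) = τ (χ g * conj (χ g)) := by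
    intro g
    rw [← IsCharacter.apply_inv hc' g, ← IsCharacter.apply_inv hc g, map_mul]
  rw [Finset.sum_congr rfl (fun g _ => h2 g), ← map_sum]
  have h3 := congrArg τ h1
  rw [map_mul, map_one, map_inv₀, map_natCast] at h3
  exact h3

/-- The values of a Galois conjugate. -/
theorem IsCharacter.map_ringHom_apply {G : Type*} [Group G] [Finite G] {χ : G → ℂ}
    (h : IsCharacter G χ) (τ : ℂ →+* ℂ) (k : ℕ)
    (hτ : ∀ w : ℂ, w ^ Nat.card G = 1 → τ w = w ^ k) (g : G) : τ (χ g) = χ (g ^ k) := by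
  obtain ⟨n, ρ, rfl⟩ := h
  obtain ⟨μ, h1, h2⟩ := exists_char_eigenvalues ρ g (Nat.card G) Nat.card_pos (pow_card_eq_one')
  have h3 := h2 1
  rw [pow_one] at h3
  rw [h3, h2 k, map_sum]
  apply Finset.sum_congr rfl
  intro i _
  rw [pow_one, hτ _ (h1 i)]

/-- `g ↦ χ (g ^ k)` is a character when `k` is prime to `|G|`. -/
theorem isCharacter_pow_coprime {G : Type*} [Group G] [Finite G] {χ : G → ℂ}
    (h : IsCharacter G χ) {k : ℕ} (hk : k.Coprime (Nat.card G)) :
    IsCharacter G (fun g => χ (g ^ k)) := by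
  obtain ⟨τ, hτ⟩ := exists_ringAut_complex (Nat.card G) Nat.card_pos k hk
  have h1 := IsCharacter.map_ringHom h τ.toRingHom
  have h2 : (fun g => τ.toRingHom (χ g)) = fun g => χ (g ^ k) := by
    ext g
    exact IsCharacter.map_ringHom_apply h τ.toRingHom k hτ g
  rwa [h2] at h1

/-- `g ↦ χ (g ^ k)` is an irreducible character when `χ` is and `k` is prime to `|G|`. -/
theorem isIrrCharacter_pow_coprime {G : Type*} [Group G] [Finite G] {χ : G → ℂ}
    (h : IsIrrCharacter G χ) {k : ℕ} (hk : k.Coprime (Nat.card G)) :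
    IsIrrCharacter G (fun g => χ (g ^ k)) := by
  obtain ⟨τ, hτ⟩ := exists_ringAut_complex (Nat.card G) Nat.card_pos k hk
  have h1 := IsIrrCharacter.map_ringHom h τ.toRingHom
  have h2 : (fun g => τ.toRingHom (χ g)) = fun g => χ (g ^ k) := by
    ext g
    exact IsCharacter.map_ringHom_apply (IsIrrCharacter.isCharacter h) τ.toRingHom k hτ g
  rwa [h2] at h1

end Cfsg.Agent.Lib.Helper76
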