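import Mathlib

set_option autoImplicit false

namespace Cfsg.Agent.Lib.Helper76

open Polynomial

/-- AM-GM in the form we need: positive reals with product at least one have sum at least their number. -/
theorem card_le_sum_of_one_le_prod {ι : Type*} [Fintype ι] (f : ι → ℝ) (hpos : ∀ j, 0 < f j)
    (hprod : 1 ≤ ∏ j, f j) : (Fintype.card ι : ℝ) ≤ ∑ j, f j := by
  have h1 : ∀ j, Real.log (f j) ≤ f j - 1 := fun j => Real.log_le_sub_one_of_pos (hpos j)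
  have h2 : Real.log (∏ j, f j) = ∑ j, Real.log (f j) :=
    Real.log_prod (fun j _ => (hpos j).ne')
  have h3 : 0 ≤ Real.log (∏ j, f j) := Real.log_nonneg hprod
  have h4 : ∑ j, Real.log (f j) ≤ ∑ j, (f j - 1) := Finset.sum_le_sum (fun j _ => h1 j)
  rw [Finset.sum_sub_distrib] at h4
  simp only [Finset.sum_const, Finset.card_univ, nsmul_eq_mul, mul_one] at h4
  linarith

/-- The Galois averaging statement for sums of `n`-th roots of unity, relative to a cyclotomic field. -/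
theorem galois_avg_aux (n : ℕ) (hn : 0 < n) (K : Type) [Field K] [Algebra ℚ K]
    [FiniteDimensional ℚ K] [IsCyclotomicExtension {n} ℚ K] :
    ∃ (ι : Type) (_ : Fintype ι) (_ : Nonempty ι) (k : ι → ℕ), (∀ j, (k j).Coprime n) ∧
      ∀ (d : ℕ) (μ : Fin d → ℂ), (∀ i, μ i ^ n = 1) → (∑ i, μ i ≠ 0) →
        (∀ j, ∑ i, μ i ^ (k j) ≠ 0) ∧
        (∃ z : ℤ, z ≠ 0 ∧ ∏ j, ∑ i, μ i ^ (k j) = (z : ℂ)) ∧
        (Fintype.card ι : ℝ) ≤ ∑ j, ‖∑ i, μ i ^ (k j)‖ ^ 2 := by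
  have : NeZero n := ⟨hn.ne'⟩
  let ζK : K := IsCyclotomicExtension.zeta n ℚ K
  have hζK : IsPrimitiveRoot ζK n := IsCyclotomicExtension.zeta_spec n ℚ K
  have hne : Nonempty (K →ₐ[ℚ] ℂ) := ⟨IsAlgClosed.lift⟩
  obtain ⟨σ₀⟩ := hne
  let ζ : ℂ := σ₀ ζK
  have hζ : IsPrimitiveRoot ζ n := hζK.map_of_injective σ₀.toRingHom.injective
  have hk : ∀ σ : K →ₐ[ℚ] ℂ, ∃ k : ℕ, k.Coprime n ∧ ζ ^ k = σ ζK := by
    intro σ
    have h1 : IsPrimitiveRoot (σ ζK) n := hζK.map_of_injective σ.toRingHom.injective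
    obtain ⟨i, _, hi, hi2⟩ := hζ.isPrimitiveRoot_iff.mp h1
    exact ⟨i, hi, hi2⟩
  choose k hk1 hk2 using hk
  refine ⟨K →ₐ[ℚ] ℂ, inferInstance, ⟨σ₀⟩, k, hk1, ?_⟩
  intro d μ hμ hsum
  have hex : ∀ i, ∃ a : ℕ, ζ ^ a = μ i := by
    intro i
    obtain ⟨a, _, ha⟩ := hζ.eq_pow_of_pow_eq_one (hμ i)
    exact ⟨a, ha⟩
  choose a ha using hex
  let x : K := ∑ i, ζK ^ (a i)
  have hσx : ∀ σ : K →ₐ[ℚ] ℂ, σ x = ∑ i, μ i ^ (k σ) := by
    intro σ
    simp only [x, map_sum, map_pow]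
    apply Finset.sum_congr rfl
    intro i _
    rw [← hk2, ← ha, ← pow_mul, ← pow_mul, mul_comm]
  have hx0 : x ≠ 0 := by
    intro h0
    apply hsum
    have : σ₀ x = ∑ i, μ i := by
      simp only [x, map_sum, map_pow]
      apply Finset.sum_congr rfl
      intro i _
      exact ha i
    rw [← this, h0, map_zero]
  have hσx0 : ∀ σ : K →ₐ[ℚ] ℂ, σ x ≠ 0 := by
    intro σ h
    exact hx0 ((map_eq_zero σ).mp h)
  have hint : IsIntegral ℤ x := by
    apply IsIntegral.sum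
    intro i _
    exact (hζK.isIntegral hn).pow _
  have hnorm : IsIntegral ℤ (Algebra.norm ℚ x) := Algebra.isIntegral_norm ℚ hint
  obtain ⟨z, hz⟩ := IsIntegrallyClosed.isIntegral_iff.mp hnorm
  have hz0 : z ≠ 0 := by
    rintro rfl
    simp only [map_zero] at hz
    exact hx0 (Algebra.norm_eq_zero_iff.mp hz.symm)
  have hprod : ∏ σ : K →ₐ[ℚ] ℂ, σ x = (z : ℂ) := by
    rw [← Algebra.norm_eq_prod_embeddings ℚ ℂ x, ← hz]
    simp
  refine ⟨fun σ => by rw [← hσx]; exact hσx0 σ, ⟨z, hz0, ?_⟩, ?_⟩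
  · rw [← hprod]
    exact Finset.prod_congr rfl (fun σ _ => (hσx σ).symm)
  · apply card_le_sum_of_one_le_prod
    · intro σ
      rw [← hσx]
      have := norm_pos_iff.mpr (hσx0 σ)
      positivity
    · rw [Finset.prod_pow, ← norm_prod]
      have : ∏ σ : K →ₐ[ℚ] ℂ, ∑ i, μ i ^ (k σ) = (z : ℂ) := by
        rw [← hprod]
        exact Finset.prod_congr rfl (fun σ _ => (hσx σ).symm)
      rw [this]
      have h1 : (1 : ℝ) ≤ ‖(z : ℂ)‖ := by
        rw [Complex.norm_intCast]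
        have : (1 : ℤ) ≤ |z| := Int.one_le_abs hz0
        exact_mod_cast this
      nlinarith

/-- The Galois averaging statement for sums of `n`-th roots of unity. -/
theorem galois_avg (n : ℕ) (hn : 0 < n) :
    ∃ (ι : Type) (_ : Fintype ι) (_ : Nonempty ι) (k : ι → ℕ), (∀ j, (k j).Coprime n) ∧
      ∀ (d : ℕ) (μ : Fin d → ℂ), (∀ i, μ i ^ n = 1) → (∑ i, μ i ≠ 0) →
        (∀ j, ∑ i, μ i ^ (k j) ≠ 0) ∧
        (∃ z : ℤ, z ≠ 0 ∧ ∏ j, ∑ i, μ i ^ (k j) = (z : ℂ)) ∧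
        (Fintype.card ι : ℝ) ≤ ∑ j, ‖∑ i, μ i ^ (k j)‖ ^ 2 := by
  have : NeZero n := ⟨hn.ne'⟩
  let _ : Algebra ℚ (CyclotomicField n ℚ) := CyclotomicField.algebra n ℚ
  have h1 : IsCyclotomicExtension {n} ℚ (CyclotomicField n ℚ) :=
    CyclotomicField.isCyclotomicExtension n ℚ
  have : FiniteDimensional ℚ (CyclotomicField n ℚ) :=
    IsCyclotomicExtension.finiteDimensional {n} ℚ (CyclotomicField n ℚ)
  exact galois_avg_aux n hn (CyclotomicField n ℚ)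

end Cfsg.Agent.Lib.Helper76
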