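import Mathlib
import Cfsg.Agent.Lib.Helper75.RegularBlock
import Cfsg.Agent.Lib.Helper78.Osima
import Cfsg.Agent.Lib.Helper80.Constituent

/-!
# Blocks of `G` and of a normal subgroup containing all `p`-regular elements (helper76)
-/

set_option autoImplicit false

namespace Cfsg.Agent.Lib.Helper76

open Cfsg Cfsg.Agent.Lib.Helper78 Cfsg.Agent.Lib.Helper80 Cfsg.Agent.Lib.Helper74
open scoped ComplexConjugate

universe u

/-- `ω_χ` of a class function supported on `L` computed from the restriction to `L`. -/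
theorem omega_eq_omega_restrict {G : Type u} [Group G] [Fintype G] (L : Subgroup G) [Fintype L]
    {χ : G → ℂ} {ψ : L → ℂ} (hχ : ∀ x : L, χ x = ψ x) {a : G → ℂ} (ha : ∀ x, x ∉ L → a x = 0) :
    omega χ a = omega ψ (fun x : L => a x) := by
  classical
  unfold omega
  have h1 : χ 1 = ψ 1 := hχ 1
  rw [h1]
  congr 1
  have h2 : ∑ g : G, a g * χ g = ∑ g ∈ Finset.univ.filter (fun g : G => g ∈ L), a g * χ g := by
    rw [Finset.sum_filter]
    apply Finset.sum_congr rfl
    intro g _
    by_cases hg : g ∈ L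
    · rw [if_pos hg]
    · rw [if_neg hg, ha g hg, zero_mul]
  rw [h2, Finset.sum_subtype (p := fun g : G => g ∈ L) _ (by simp) (fun g => a g * χ g)]
  apply Finset.sum_congr rfl
  intro x _
  rw [hχ x]

/-- If the normal subgroup `L` contains all `p`-regular elements and `χ`, `χ'` restrict irreducibly
to characters of `L` in the same block, then `χ` and `χ'` lie in the same block. -/
theorem sameBlock_of_restrict {G : Type u} [Group G] [Finite G] {p : ℕ} {M : Ideal AlgInt}
    (hM : IsPModular p M) (L : Subgroup G) [hLn : L.Normal]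
    (hL : ∀ g : G, ¬ p ∣ orderOf g → g ∈ L) (χ χ' : IrrCharacter G) (ψ ψ' : IrrCharacter L)
    (hχ : ∀ x : L, (χ : G → ℂ) x = (ψ : L → ℂ) x) (hχ' : ∀ x : L, (χ' : G → ℂ) x = (ψ' : L → ℂ) x)
    (h : SameBlock M (ψ : L → ℂ) (ψ' : L → ℂ)) : SameBlock M (χ : G → ℂ) (χ' : G → ℂ) := by
  classical
  let _ : Fintype G := Fintype.ofFinite G
  let _ : Fintype L := Fintype.ofFinite L
  have hMp := pmod_isPrime hM
  apply Cfsg.Agent.Lib.Helper75.sameBlock_of_regular hM
  intro g hg
  have hsupp : ∀ x, x ∉ L → classInd g x = 0 := by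
    intro x hx
    unfold classInd
    rw [if_neg]
    intro hc
    obtain ⟨c, hc⟩ := isConj_iff.mp hc
    exact hx (hc ▸ hLn.conj_mem g (hL g hg) c)
  rw [← omega_classInd (irr_isClassFunction χ), ← omega_classInd (irr_isClassFunction χ'),
    omega_eq_omega_restrict L hχ hsupp, omega_eq_omega_restrict L hχ' hsupp]
  apply memLocalIdeal_omega_sub hMp h
  · intro x y
    exact classInd_isClassFunction g (x : G) (y : G)
  · intro x
    unfold classInd
    split_ifs
    · exact memLocalRing_one hMp
    · exact memLocalRing_zero hMp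

/-- A character whose restriction to a subgroup `N ≤ L` is irreducible restricts irreducibly to
`L`. -/
theorem isIrrCharacter_restrict_of_le {G : Type u} [Group G] [Finite G] {N L : Subgroup G}
    (hNL : N ≤ L) {χ : G → ℂ} (hχ : IsCharacter G χ) (hN : IsIrrCharacter N (fun n : N => χ n)) :
    IsIrrCharacter L (fun x : L => χ x) := by
  classical
  let _ : Fintype L := Fintype.ofFinite L
  let _ : Fintype N := Fintype.ofFinite N
  have hL : IsCharacter L (fun x : L => χ x) := IsCharacter.restrict hχ L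
  have hne : (fun x : L => χ x) ≠ 0 := by
    intro h0
    have h1 := congrFun h0 1
    exact char_one_ne_zero_of_irr hN h1
  obtain ⟨ξ, hξ⟩ := exists_constituent hL hne
  obtain ⟨Ψ, hΨ, hsum⟩ := exists_add_of_constituent hL ξ hξ
  have hA : IsCharacter N ((ξ : L → ℂ) ∘ Subgroup.inclusion hNL) :=
    IsCharacter.comp (isCharacter_of_irr ξ.2) _
  have hB : IsCharacter N (Ψ ∘ Subgroup.inclusion hNL) := IsCharacter.comp hΨ _
  have hdec : ((⟨_, hN⟩ : IrrCharacter N) : N → ℂ) =
      (ξ : L → ℂ) ∘ Subgroup.inclusion hNL + Ψ ∘ Subgroup.inclusion hNL := by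
    funext n
    exact congrFun hsum (Subgroup.inclusion hNL n)
  rcases eq_zero_or_eq_zero_of_irr_eq_add _ hA hB hdec with h0 | h0
  · exfalso
    have h1 := congrFun h0 1
    exact char_one_ne_zero_of_irr ξ.2 h1
  · have h1 : Ψ 1 = 0 := congrFun h0 1
    have h2 := eq_zero_of_char_one_eq_zero hΨ h1
    rw [hsum, h2, add_zero]
    exact ξ.2

end Cfsg.Agent.Lib.Helper76
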