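import Mathlib
import Cfsg.Agent.Lib.Helper78.IndBlock2
import Cfsg.Agent.Lib.Helper78.DefectZero
import Cfsg.Agent.Lib.Helper35.BlockNormal
import Cfsg.Agent.Lib.Helper80.Induced
import Cfsg.Agent.Lib.Helper15.Gallagher

/-!
# Principal blocks and normal subgroups of `p'`-index with `G = N C_G(P)` (helper76)
-/

set_option autoImplicit false

namespace Cfsg.Agent.Lib.Helper76

open Cfsg Cfsg.Agent.Lib.Helper78 Cfsg.Agent.Lib.Helper80 Cfsg.Agent.Lib.Helper74
open scoped ComplexConjugate

universe u

variable {G : Type u} [Group G] [Finite G] {p : ℕ} {M : Ideal AlgInt}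

/-- Characters of the principal block satisfy `χ(c)/χ(1) ≡ 1` at elements `c` whose class has size
prime to `p`. -/
theorem ratio_sub_one_mem (hM : IsPModular p M) {χ : IrrCharacter G}
    (hχ : χ ∈ principalBlock M G) {c : G}
    (hc : ¬ p ∣ (Subgroup.centralizer ({c} : Set G)).index) :
    MemLocalIdeal M ((χ : G → ℂ) c / (χ : G → ℂ) 1 - 1) := by
  have hMp := pmod_isPrime hM
  have h1 : MemLocalIdeal M (centralChar (fun _ : G => (1 : ℂ)) c - centralChar (χ : G → ℂ) c) :=
    hχ c
  have h2 := MemLocalIdeal.mul_left hMp (memLocalRing_inv_natCast hM hc) (MemLocalIdeal.neg h1)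
  have hne : ((Subgroup.centralizer ({c} : Set G)).index : ℂ) ≠ 0 := by
    exact_mod_cast Subgroup.index_ne_zero_of_finite
  convert h2 using 1
  unfold centralChar
  field_simp
  ring

theorem ne_zero_of_ratio (hM : IsPModular p M) {z : ℂ} (h : MemLocalIdeal M (z - 1)) : z ≠ 0 := by
  rintro rfl
  have hMp := pmod_isPrime hM
  apply not_memLocalIdeal_one hMp
  simpa using MemLocalIdeal.neg h

/-- An irreducible character with `N` in its kernel (`N` of index prime to `p`) all of whose values
are congruent to its degree is trivial. -/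
theorem eq_one_of_ratio (hM : IsPModular p M) (N : Subgroup G) [N.Normal] (hidx : ¬ p ∣ N.index)
    (β : IrrCharacter G) (hker : ∀ n ∈ N, (β : G → ℂ) n = (β : G → ℂ) 1)
    (hrat : ∀ g, MemLocalIdeal M ((β : G → ℂ) g / (β : G → ℂ) 1 - 1)) :
    ∀ g, (β : G → ℂ) g = 1 := by
  classical
  have hMp := pmod_isPrime hM
  let _ : Fintype (G ⧸ N) := Fintype.ofFinite _
  obtain ⟨ψ, hψ, hψβ⟩ := exists_deflate_irr N β.2 hker
  by_cases htriv : (⟨ψ, hψ⟩ : IrrCharacter (G ⧸ N)) = trivIrr (G ⧸ N)
  · intro g
    rw [← hψβ g]
    exact congrFun (congrArg Subtype.val htriv) _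
  · exfalso
    have h0 := classInner_irr (⟨ψ, hψ⟩ : IrrCharacter (G ⧸ N)) (trivIrr (G ⧸ N))
    rw [if_neg htriv] at h0
    unfold classInner at h0
    have hcard : (Nat.card (G ⧸ N) : ℂ)⁻¹ ≠ 0 := by
      apply inv_ne_zero
      exact_mod_cast Nat.card_pos.ne'
    have h1 : ∑ x : G ⧸ N, ψ x = 0 := by
      have := (mul_eq_zero.mp h0).resolve_left hcard
      simpa [trivIrr] using this
    have h2 : MemLocalIdeal M (∑ x : G ⧸ N, (ψ x / ψ 1 - 1)) := by
      apply MemLocalIdeal.sum hMp
      intro x _
      obtain ⟨g, rfl⟩ := QuotientGroup.mk_surjective x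
      have := hrat g
      rw [← hψβ g, ← hψβ 1] at this
      exact this
    rw [Finset.sum_sub_distrib, ← Finset.sum_div, h1, zero_div, zero_sub, Finset.sum_const,
      Finset.card_univ, nsmul_eq_mul, mul_one] at h2
    have h3 := MemLocalIdeal.neg h2
    rw [neg_neg, memLocalIdeal_natCast_iff hM, ← Nat.card_eq_fintype_card,
      ← Subgroup.index_eq_card] at h3
    exact hidx h3

section main

variable (N : Subgroup G) [hN : N.Normal]

/-- Constituents of restrictions of principal block characters lie in the principal block. -/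
theorem mem_principalBlock_of_constituent (hM : IsPModular p M) [Fintype N]
    {χ : IrrCharacter G} (hχ : χ ∈ principalBlock M G) {θ : IrrCharacter N}
    (hθ : classInner (fun n : N => (χ : G → ℂ) n) (θ : N → ℂ) ≠ 0) :
    θ ∈ principalBlock M N := by
  classical
  let _ : Fintype G := Fintype.ofFinite G
  have hMp := pmod_isPrime hM
  have hcov : Cfsg.Agent.Lib.Helper35.Covers N (principalBlock M G) (principalBlock M N) := by
    refine ⟨trivIrr G, trivIrr_mem_principalBlock hMp, trivIrr N, trivIrr_mem_principalBlock hMp, ?_⟩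
    have := classInner_irr_self (trivIrr N)
    rw [show (fun n : N => ((trivIrr G : IrrCharacter G) : G → ℂ) n) =
      ((trivIrr N : IrrCharacter N) : N → ℂ) from rfl, this]
    exact one_ne_zero
  obtain ⟨g, hg⟩ := Cfsg.Agent.Lib.Helper35.exists_cjIrr_mem_of_covers N hMp
    isPBlock_principalBlock isPBlock_principalBlock
    (Cfsg.Agent.Lib.Helper35.Covers.memLocalIdeal N hMp isPBlock_principalBlock
      isPBlock_principalBlock hcov) hχ hθ
  have h1 : SameBlock M (fun _ : N => (1 : ℂ)) (Cfsg.Agent.Lib.Helper15.cj N g (θ : N → ℂ)) := hg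
  have h2 := Cfsg.Agent.Lib.Helper35.sameBlock_cj N g⁻¹ h1
  rw [Cfsg.Agent.Lib.Helper15.cj_inv_cj] at h2
  exact h2

/-- Every character of the principal block of `N` lies under a character of the principal block of
`G`, provided the trivial character is the only member of the principal block of `G` with `N` in
its kernel. -/
theorem exists_mem_principalBlock_over (hM : IsPModular p M) [Fintype N]
    (honly : ∀ β ∈ principalBlock M G, (∀ n ∈ N, (β : G → ℂ) n = (β : G → ℂ) 1) →
      β = trivIrr G)
    {θ : IrrCharacter N} (hθ : θ ∈ principalBlock M N) :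
    ∃ χ ∈ principalBlock M G, classInner (fun n : N => (χ : G → ℂ) n) (θ : N → ℂ) ≠ 0 := by
  classical
  let _ : Fintype G := Fintype.ofFinite G
  have hMp := pmod_isPrime hM
  set e : N → ℂ := fun x : N => blockCoeff (principalBlock M G) x with he
  have hecl : IsClassFunction N e := fun x y =>
    blockCoeff_isClassFunction (principalBlock M G) (x : G) (y : G)
  have heloc : ∀ x, MemLocalRing M (e x) := fun x =>
    memLocalRing_blockCoeff hMp isPBlock_principalBlock _
  -- the value at the trivial character
  have h1 := blockPart_indFun_one (H := N) (principalBlock M G) (trivIrr N)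
  have hdeg1 : charDegree (indFun N ((trivIrr N : IrrCharacter N) : N → ℂ)) = N.index := by
    rw [charDegree_indFun N (isCharacter_of_irr (trivIrr N).2)]
    have : charDegree ((trivIrr N : IrrCharacter N) : N → ℂ) = 1 := by
      have h := char_one_eq_charDegree (isCharacter_of_irr (trivIrr N).2)
      have h' : ((trivIrr N : IrrCharacter N) : N → ℂ) 1 = 1 := rfl
      rw [h'] at h
      exact_mod_cast h.symm
    rw [this, mul_one]
  have hsum : blockPart (principalBlock M G) (indFun N ((trivIrr N : IrrCharacter N) : N → ℂ)) 1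
      = 1 := by
    rw [blockPart_apply, Finset.sum_eq_single (trivIrr G)]
    · rw [if_pos (trivIrr_mem_principalBlock hMp),
        Cfsg.Agent.Lib.Helper3.frobenius_reciprocity N _ (irr_isClassFunction (trivIrr G))]
      have := classInner_irr_self (trivIrr N)
      rw [show (fun n : N => ((trivIrr G : IrrCharacter G) : G → ℂ) n) =
        ((trivIrr N : IrrCharacter N) : N → ℂ) from rfl, this, one_mul]
      rfl
    · intro β _ hβ
      split_ifs with hβB
      · have : classInner (indFun N ((trivIrr N : IrrCharacter N) : N → ℂ)) (β : G → ℂ) = 0 := by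
          by_contra hne
          have hne' := (classInner_indFun_ne_zero_iff N _ (irr_isClassFunction β)).mp hne
          have h2 := (Cfsg.Agent.Lib.Helper15.restrict_eq_of_inner_one_ne_zero N β.2 hne').2
          exact hβ (honly β hβB (fun n hn => h2 ⟨n, hn⟩))
        rw [this, zero_mul]
      · rfl
    · intro h; exact absurd (Finset.mem_univ _) h
  rw [hsum, hdeg1] at h1
  have hunit : ¬ MemLocalIdeal M (omega ((trivIrr N : IrrCharacter N) : N → ℂ) e) := by
    intro hmem
    apply not_memLocalIdeal_one hMp
    rw [h1]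
    exact MemLocalIdeal.mul_left hMp (memLocalRing_natCast hMp _) hmem
  have hθ' : SameBlock M ((trivIrr N : IrrCharacter N) : N → ℂ) (θ : N → ℂ) := hθ
  have hcong := memLocalIdeal_omega_sub hMp hθ' hecl heloc
  have hunit' : ¬ MemLocalIdeal M (omega (θ : N → ℂ) e) := by
    intro hmem
    exact hunit ((MemLocalIdeal.congr hMp hcong).mpr hmem)
  have h2 := blockPart_indFun_one (H := N) (principalBlock M G) θ
  have hne : blockPart (principalBlock M G) (indFun N (θ : N → ℂ)) 1 ≠ 0 := by
    rw [h2]
    apply mul_ne_zero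
    · rw [charDegree_indFun N (isCharacter_of_irr θ.2)]
      have h3 := charDegree_pos_of_irr θ.2
      have h4 : N.index ≠ 0 := Subgroup.index_ne_zero_of_finite
      exact_mod_cast (Nat.mul_ne_zero h4 h3.ne')
    · exact ne_zero_of_not_memLocalIdeal hMp hunit'
  rw [blockPart_apply] at hne
  obtain ⟨χ, -, hχ⟩ := Finset.exists_ne_zero_of_sum_ne_zero hne
  split_ifs at hχ with hχB
  · refine ⟨χ, hχB, ?_⟩
    rw [← classInner_indFun_ne_zero_iff N _ (irr_isClassFunction χ)]
    exact left_ne_zero_of_mul hχ
  · exact absurd rfl hχ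

end main

end Cfsg.Agent.Lib.Helper76
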