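import Mathlib
import Cfsg.Agent.Lib.Helper81.FSChar
import Cfsg.Agent.Lib.Helper81.BrauerPerm
import Cfsg.Agent.Lib.Helper80.Deflation
import Cfsg.Agent.Lib.Helper15.Clifford2
import Cfsg.Agent.Lib.Helper78.ClassAlg
import Cfsg.Agent.S0887

/-!
# Real characters and normal subgroups of odd index (helper76)
-/

set_option autoImplicit false

namespace Cfsg.Agent.Lib.Helper76

open Cfsg Cfsg.Agent.Lib.Helper74 Cfsg.Agent.Lib.Helper80
open scoped ComplexConjugate

universe u

/-- The complex conjugate of an irreducible character. -/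
noncomputable def starIrr {Q : Type u} [Group Q] [Finite Q] (β : IrrCharacter Q) : IrrCharacter Q :=
  ⟨fun g => conj ((β : Q → ℂ) g), Cfsg.Agent.Lib.Helper81.IsIrrCharacter.star β.2⟩

theorem starIrr_starIrr {Q : Type u} [Group Q] [Finite Q] (β : IrrCharacter Q) :
    starIrr (starIrr β) = β := by
  apply Subtype.ext
  funext g
  simp [starIrr]

/-- In a group of odd order, the degree of a real-valued character is congruent modulo 2 to the
multiplicity of the principal character. -/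
theorem parity_of_real_of_odd {Q : Type u} [Group Q] [Fintype Q] (hodd : Odd (Nat.card Q))
    {η : Q → ℂ} (hη : IsCharacter Q η) (hreal : ∀ x, conj (η x) = η x) (a d : ℕ)
    (ha : classInner η (fun _ => (1 : ℂ)) = a) (hd : η 1 = d) : (a : ZMod 2) = (d : ZMod 2) := by
  classical
  have hc : ∀ β : IrrCharacter Q, ∃ m : ℕ, classInner η (β : Q → ℂ) = m :=
    fun β => IsCharacter.classInner_irr_nat hη β
  choose c hc using hc
  set t : IrrCharacter Q := ⟨fun _ => 1, isIrrCharacter_one⟩ with ht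
  have h1 : d = ∑ β : IrrCharacter Q, c β * charDegree (β : Q → ℂ) := by
    have h := congrFun (IsCharacter.eq_sum_classInner hη) 1
    rw [hd, Finset.sum_apply] at h
    have h' : (d : ℂ) = ((∑ β : IrrCharacter Q, c β * charDegree (β : Q → ℂ) : ℕ) : ℂ) := by
      rw [h]
      push_cast
      refine Finset.sum_congr rfl fun β _ => ?_
      rw [Pi.smul_apply, smul_eq_mul, hc, Cfsg.Agent.Lib.Helper78.irr_one_eq]
    exact_mod_cast h'
  have hcstar : ∀ β, c (starIrr β) = c β := by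
    intro β
    have h2 : classInner η ((starIrr β : IrrCharacter Q) : Q → ℂ) = conj (classInner η (β : Q → ℂ)) := by
      unfold classInner
      rw [map_mul, map_sum, map_inv₀, Complex.conj_natCast]
      congr 1
      refine Finset.sum_congr rfl fun x _ => ?_
      rw [map_mul, hreal]
      rfl
    rw [hc, hc, Complex.conj_natCast] at h2
    exact_mod_cast h2
  have hdstar : ∀ β : IrrCharacter Q,
      charDegree ((starIrr β : IrrCharacter Q) : Q → ℂ) = charDegree (β : Q → ℂ) := by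
    intro β
    have h2 := Cfsg.Agent.Lib.Helper78.irr_one_eq (starIrr β)
    have h3 : ((starIrr β : IrrCharacter Q) : Q → ℂ) 1 = conj ((β : Q → ℂ) 1) := rfl
    rw [h3, Cfsg.Agent.Lib.Helper78.irr_one_eq, Complex.conj_natCast] at h2
    exact_mod_cast h2.symm
  have hct : c t = a := by
    have := hc t
    rw [show ((t : IrrCharacter Q) : Q → ℂ) = fun _ => (1 : ℂ) from rfl, ha] at this
    exact_mod_cast this.symm
  have hdt : charDegree ((t : IrrCharacter Q) : Q → ℂ) = 1 := by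
    have h2 := Cfsg.Agent.Lib.Helper78.irr_one_eq t
    have h3 : ((t : IrrCharacter Q) : Q → ℂ) 1 = 1 := rfl
    rw [h3] at h2
    exact_mod_cast h2.symm
  rw [h1, ← Finset.add_sum_erase Finset.univ _ (Finset.mem_univ t), hct, hdt, mul_one]
  push_cast
  have hz : ∑ β ∈ Finset.univ.erase t, ((c β : ZMod 2) * (charDegree (β : Q → ℂ) : ZMod 2)) = 0 := by
    have hmem : ∀ β ∈ Finset.univ.erase t, starIrr β ∈ Finset.univ.erase t := by
      intro β hβ
      refine Finset.mem_erase.mpr ⟨?_, Finset.mem_univ _⟩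
      intro heq
      apply (Finset.mem_erase.mp hβ).1
      rw [← starIrr_starIrr β, heq]
      apply Subtype.ext
      funext g
      simp [starIrr, ht]
    refine Finset.sum_involution (fun β _ => starIrr β) ?_ ?_ hmem ?_
    · intro β _
      rw [hcstar, hdstar]
      exact CharTwo.add_self_eq_zero _
    · intro β hβ _ heq
      apply (Finset.mem_erase.mp hβ).1
      apply Subtype.ext
      apply Cfsg.Agent.Lib.Helper81.IsIrrCharacter.eq_one_of_real_of_odd hodd β.2
      intro g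
      have h2 : conj ((β : Q → ℂ) g) = (β : Q → ℂ) g := congrFun (congrArg Subtype.val heq) g
      exact Complex.conj_eq_iff_im.mp h2
    · intro β _
      exact starIrr_starIrr β
  rw [hz, add_zero]

section overSec

variable {G : Type u} [Group G] [Fintype G] (N : Subgroup G) [N.Normal] [Fintype N]

open Classical in
theorem clifford_degree_orbit (θ : IrrCharacter N) (χ : IrrCharacter G) (m : ℕ)
    (hm : classInner (fun n : N => (χ : G → ℂ) n) (θ : N → ℂ) = m) (hm0 : m ≠ 0) :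
    charDegree (χ : G → ℂ) = m *
      ((Finset.univ.image (fun g : G => Cfsg.Agent.Lib.Helper15.cj N g (θ : N → ℂ))).card *
        charDegree (θ : N → ℂ)) := by
  have h0 : classInner (fun n : N => (χ : G → ℂ) n) (θ : N → ℂ) ≠ 0 := by
    rw [hm]; exact_mod_cast hm0
  have h1 := congrFun (Cfsg.Agent.Lib.Helper15.clifford_theorem N χ.2 θ.2 h0) 1
  simp only [Pi.smul_apply, Finset.sum_apply, smul_eq_mul, OneMemClass.coe_one] at h1
  have h2 : ∑ φ ∈ Finset.univ.image (fun g : G => Cfsg.Agent.Lib.Helper15.cj N g (θ : N → ℂ)), φ 1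
      = ((Finset.univ.image (fun g : G => Cfsg.Agent.Lib.Helper15.cj N g (θ : N → ℂ))).card : ℂ) *
        (charDegree (θ : N → ℂ) : ℂ) := by
    rw [Finset.sum_congr rfl (g := fun _ => (charDegree (θ : N → ℂ) : ℂ)), Finset.sum_const,
      nsmul_eq_mul]
    intro φ hφ
    obtain ⟨g, -, rfl⟩ := Finset.mem_image.1 hφ
    rw [Cfsg.Agent.Lib.Helper15.cj_apply_one, Cfsg.Agent.Lib.Helper78.irr_one_eq]
  rw [h2, hm, Cfsg.Agent.Lib.Helper78.irr_one_eq] at h1
  exact_mod_cast h1

open Classical in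
theorem classInner_restrict_restrict (θ : IrrCharacter N) (χ₁ χ₂ : IrrCharacter G) (m₁ m₂ : ℕ)
    (hm₁ : classInner (fun n : N => (χ₁ : G → ℂ) n) (θ : N → ℂ) = m₁) (hm0 : m₁ ≠ 0)
    (hm₂ : classInner (fun n : N => (χ₂ : G → ℂ) n) (θ : N → ℂ) = m₂) :
    classInner (fun n : N => (χ₁ : G → ℂ) n) (fun n : N => (χ₂ : G → ℂ) n) = ((m₁ * m₂ *
      (Finset.univ.image (fun g : G => Cfsg.Agent.Lib.Helper15.cj N g (θ : N → ℂ))).card : ℕ) : ℂ) := by
  have h0 : classInner (fun n : N => (χ₁ : G → ℂ) n) (θ : N → ℂ) ≠ 0 := by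
    rw [hm₁]; exact_mod_cast hm0
  rw [Cfsg.Agent.Lib.Helper15.clifford_theorem N χ₁.2 θ.2 h0, classInner_smul_left,
    classInner_sum_left, hm₁,
    Finset.sum_congr rfl (g := fun _ => (m₂ : ℂ)), Finset.sum_const, nsmul_eq_mul]
  · push_cast; ring
  · intro φ hφ
    obtain ⟨g, -, rfl⟩ := Finset.mem_image.1 hφ
    rw [← classInner_conj_symm, Cfsg.Agent.Lib.Helper15.classInner_restrict_cj N g
      (Cfsg.Agent.Lib.Helper15.irr_cf χ₂.2), hm₂, Complex.conj_natCast]

/-- Two irreducible characters of `G` over the same character of the normal subgroup `N` of odd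
index are equal as soon as the deflation of `χ₁ χ̄₂` to `G / N` is real-valued. -/
theorem eq_of_over_of_defl_real (hodd : Odd N.index) (θ : IrrCharacter N) (χ₁ χ₂ : IrrCharacter G)
    (h₁ : classInner (fun n : N => (χ₁ : G → ℂ) n) (θ : N → ℂ) ≠ 0)
    (h₂ : classInner (fun n : N => (χ₂ : G → ℂ) n) (θ : N → ℂ) ≠ 0)
    (hreal : ∀ q, conj (defl N (fun g => (χ₁ : G → ℂ) g * conj ((χ₂ : G → ℂ) g)) q) =
      defl N (fun g => (χ₁ : G → ℂ) g * conj ((χ₂ : G → ℂ) g)) q) : χ₁ = χ₂ := by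
  classical
  let _ : Fintype (G ⧸ N) := Fintype.ofFinite _
  set Φ : G → ℂ := fun g => (χ₁ : G → ℂ) g * conj ((χ₂ : G → ℂ) g) with hΦ
  have hΦc : IsCharacter G Φ :=
    IsCharacter.mul (IrrCharacter.isCharacter χ₁) (IsCharacter.star (IrrCharacter.isCharacter χ₂))
  have hηc := isCharacter_defl N hΦc
  obtain ⟨m₁, hm₁⟩ := Cfsg.Agent.Lib.Helper15.inner_nat
      (Cfsg.Agent.Lib.Helper15.char_restrict (Cfsg.Agent.Lib.Helper15.irr_char χ₁.2) N)
      (Cfsg.Agent.Lib.Helper15.irr_char θ.2)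
  obtain ⟨m₂, hm₂⟩ := Cfsg.Agent.Lib.Helper15.inner_nat
      (Cfsg.Agent.Lib.Helper15.char_restrict (Cfsg.Agent.Lib.Helper15.irr_char χ₂.2) N)
      (Cfsg.Agent.Lib.Helper15.irr_char θ.2)
  have hm₁0 : m₁ ≠ 0 := by rintro rfl; exact h₁ (by rw [hm₁]; simp)
  have hm₂0 : m₂ ≠ 0 := by rintro rfl; exact h₂ (by rw [hm₂]; simp)
  set t := (Finset.univ.image (fun g : G => Cfsg.Agent.Lib.Helper15.cj N g (θ : N → ℂ))).card with ht
  -- the degree of the deflation
  have hd : defl N Φ 1 = ((m₁ * m₂ * t : ℕ) : ℂ) := by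
    rw [← classInner_restrict_restrict N θ χ₁ χ₂ m₁ m₂ hm₁ hm₁0 hm₂, ← QuotientGroup.mk_one,
      defl_mk]
    unfold classInner
    congr 1
    refine Finset.sum_congr rfl fun n _ => ?_
    rw [mul_one]
  -- the multiplicity of the principal character
  have ha : classInner (defl N Φ) (fun _ => (1 : ℂ)) = ((if χ₁ = χ₂ then 1 else 0 : ℕ) : ℂ) := by
    rw [classInner_defl]
    have : classInner Φ (fun _ : G => (1 : ℂ)) = classInner (χ₁ : G → ℂ) (χ₂ : G → ℂ) := by
      unfold classInner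
      congr 1
      refine Finset.sum_congr rfl fun g _ => ?_
      rw [map_one, mul_one]
    rw [this, classInner_irr]
    split_ifs <;> simp
  have hcard : Odd (Nat.card (G ⧸ N)) := by
    rw [← Subgroup.index_eq_card]; exact hodd
  have hpar := parity_of_real_of_odd hcard hηc hreal _ _ ha hd
  -- oddness
  have hθpos := Cfsg.Agent.Lib.Helper78.irr_charDegree_pos θ
  have hodd₁ : Odd (m₁ * t) := by
    have h := Cfsg.Agent.S0887.result N (χ₁ : G → ℂ) χ₁.2 (θ : N → ℂ) θ.2 h₁ _ _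
      (Cfsg.Agent.Lib.Helper78.irr_one_eq χ₁) (Cfsg.Agent.Lib.Helper78.irr_one_eq θ)
    rw [clifford_degree_orbit N θ χ₁ m₁ hm₁ hm₁0, ← mul_assoc, Nat.mul_div_cancel _ hθpos] at h
    exact Odd.of_dvd_nat hodd h.2
  have hodd₂ : Odd (m₂ * t) := by
    have h := Cfsg.Agent.S0887.result N (χ₂ : G → ℂ) χ₂.2 (θ : N → ℂ) θ.2 h₂ _ _
      (Cfsg.Agent.Lib.Helper78.irr_one_eq χ₂) (Cfsg.Agent.Lib.Helper78.irr_one_eq θ)
    rw [clifford_degree_orbit N θ χ₂ m₂ hm₂ hm₂0, ← mul_assoc, Nat.mul_div_cancel _ hθpos] at h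
    exact Odd.of_dvd_nat hodd h.2
  have hodd₃ : Odd (m₁ * m₂ * t) := by
    have h1 := (Nat.odd_mul.mp hodd₁)
    have h2 := (Nat.odd_mul.mp hodd₂)
    exact (h1.1.mul h2.1).mul h1.2
  by_contra hne
  rw [if_neg hne] at hpar
  have : ((m₁ * m₂ * t : ℕ) : ZMod 2) = 1 := (ZMod.natCast_eq_one_iff_odd).mpr hodd₃
  rw [this] at hpar
  simp at hpar

theorem mem_of_sq_mem (hodd : Odd N.index) {g : G} (h : g * g ∈ N) : g ∈ N := by
  rw [← QuotientGroup.eq_one_iff] at h ⊢
  rw [QuotientGroup.mk_mul, ← pow_two] at h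
  have h1 : orderOf (g : G ⧸ N) ∣ 2 := orderOf_dvd_of_pow_eq_one h
  have h2 : orderOf (g : G ⧸ N) ∣ N.index := by
    rw [Subgroup.index_eq_card]; exact orderOf_dvd_natCard _
  have h3 : orderOf (g : G ⧸ N) ∣ Nat.gcd 2 N.index := Nat.dvd_gcd h1 h2
  rw [Nat.coprime_two_left.mpr hodd, Nat.dvd_one, orderOf_eq_one_iff] at h3
  exact h3

/-- The Frobenius–Schur sum of a function induced from a normal subgroup of odd index. -/
theorem sum_sq_indFun (hodd : Odd N.index) (φ : N → ℂ) :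
    ∑ g : G, indFun N φ (g * g) = (N.index : ℂ) * ∑ n : N, φ (n * n) := by
  classical
  have h1 : ∑ g : G, indFun N φ (g * g) = ∑ n : N, indFun N φ ((n * n : N) : G) := by
    rw [← Finset.sum_subset (Finset.subset_univ (Finset.univ.filter (fun g : G => g ∈ N)))]
    · rw [Finset.sum_subtype (Finset.univ.filter (fun g : G => g ∈ N)) (p := fun g => g ∈ N)
        (fun x => by simp)]
      rfl
    · intro g _ hg
      apply Cfsg.Agent.Lib.Helper15.indFun_normal_not_mem
      intro hmem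
      exact hg (Finset.mem_filter.mpr ⟨Finset.mem_univ _, mem_of_sq_mem N hodd hmem⟩)
  rw [h1]
  simp only [Cfsg.Agent.Lib.Helper15.indFun_normal_coe]
  rw [← Finset.mul_sum, Finset.sum_comm]
  have h2 : ∀ x : G, ∑ n : N, Cfsg.Agent.Lib.Helper15.cj N x φ (n * n) = ∑ n : N, φ (n * n) := by
    intro x
    rw [← Equiv.sum_comp (MulAut.conjNormal x : N ≃* N).toEquiv (fun n => φ (n * n))]
    refine Finset.sum_congr rfl fun n _ => ?_
    rw [Cfsg.Agent.Lib.Helper15.cj_eq_comp]
    simp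
  rw [Finset.sum_congr rfl (fun x _ => h2 x), Finset.sum_const, Finset.card_univ, nsmul_eq_mul,
    ← mul_assoc]
  congr 1
  have hN : (Nat.card N : ℂ) ≠ 0 := by exact_mod_cast Nat.card_pos.ne'
  rw [inv_mul_eq_iff_eq_mul₀ hN, ← Nat.cast_mul, mul_comm, N.index_mul_card,
    Nat.card_eq_fintype_card]

end overSec

end Cfsg.Agent.Lib.Helper76
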