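import Mathlib
import Cfsg.Agent.Lib.Helper3.Table

set_option autoImplicit false

namespace Cfsg.Agent.Lib.Helper76

open Subgroup Cfsg

theorem sum_comp_mk {G : Type*} [Group G] [Fintype G] (N : Subgroup G) [Fintype (G ⧸ N)]
    (f : G ⧸ N → ℂ) :
    ∑ g : G, f (g : G ⧸ N) = (Nat.card N : ℂ) * ∑ q : G ⧸ N, f q := by
  classical
  rw [← Finset.sum_fiberwise' Finset.univ (fun g : G => (g : G ⧸ N)) f, Finset.mul_sum]
  apply Finset.sum_congr rfl
  intro q _
  rw [Finset.sum_const, nsmul_eq_mul]
  congr 2
  have h := QuotientGroup.card_preimage_mk N {q}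
  simp only [Nat.card_eq_fintype_card, Fintype.card_unique, mul_one] at h
  rw [Nat.card_eq_fintype_card, ← h, Fintype.card_subtype]
  congr 1
  ext x
  simp

theorem sum_card_centralizer_of_class_pred {Q : Type*} [Group Q] [Fintype Q]
    (P : ConjClasses Q → Prop) [DecidablePred P] :
    ∑ q : Q, (if P (ConjClasses.mk q) then (Nat.card (centralizer ({q} : Set Q)) : ℂ) else 0) =
      (Nat.card Q : ℂ) * (Nat.card {C : ConjClasses Q // P C} : ℂ) := by
  classical
  have hc := Cfsg.Agent.Lib.Helper3.card_isConj_mul_card_centralizer (G := Q)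
  rw [← Finset.sum_fiberwise Finset.univ (fun q : Q => ConjClasses.mk q)]
  have h1 : ∀ C : ConjClasses Q, ∑ q ∈ Finset.univ.filter (fun q : Q => ConjClasses.mk q = C),
      (if P (ConjClasses.mk q) then (Nat.card (centralizer ({q} : Set Q)) : ℂ) else 0) =
      if P C then (Nat.card Q : ℂ) else 0 := by
    intro C
    obtain ⟨g, rfl⟩ := ConjClasses.mk_surjective C
    by_cases hP : P (ConjClasses.mk g)
    · rw [if_pos hP]
      have h2 : ∀ q ∈ Finset.univ.filter (fun q : Q => ConjClasses.mk q = ConjClasses.mk g),
          (if P (ConjClasses.mk q) then (Nat.card (centralizer ({q} : Set Q)) : ℂ) else 0) =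
            (Nat.card (centralizer ({g} : Set Q)) : ℂ) := by
        intro q hq
        rw [Finset.mem_filter] at hq
        rw [hq.2, if_pos hP]
        have h3 := hc q
        have h4 := hc g
        have h5 : Nat.card {x : Q // IsConj q x} = Nat.card {x : Q // IsConj g x} := by
          apply Nat.card_congr
          refine Equiv.subtypeEquivRight fun x => ?_
          have := ConjClasses.mk_eq_mk_iff_isConj.mp hq.2
          exact ⟨fun h => this.symm.trans h, fun h => this.trans h⟩
        rw [h5, ← h4] at h3
        have h6 : 0 < Nat.card {x : Q // IsConj g x} := by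
          have : Nonempty {x : Q // IsConj g x} := ⟨⟨g, IsConj.refl g⟩⟩
          exact Nat.card_pos
        exact_mod_cast Nat.eq_of_mul_eq_mul_left h6 h3
      rw [Finset.sum_congr rfl h2, Finset.sum_const, nsmul_eq_mul, ← hc g]
      push_cast
      congr 2
      rw [Nat.card_eq_fintype_card, Fintype.card_subtype]
      congr 1
      ext x
      simp only [Finset.mem_filter, Finset.mem_univ, true_and]
      rw [ConjClasses.mk_eq_mk_iff_isConj, isConj_comm]
    · rw [if_neg hP]
      apply Finset.sum_eq_zero
      intro q hq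
      rw [Finset.mem_filter] at hq
      rw [hq.2, if_neg hP]
  rw [Finset.sum_congr rfl (fun C _ => h1 C), ← Finset.sum_filter, Finset.sum_const, nsmul_eq_mul,
    mul_comm]
  congr 2
  rw [Nat.card_eq_fintype_card, Fintype.card_subtype]

end Cfsg.Agent.Lib.Helper76
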