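import Mathlib
import Cfsg.Agent.Lib.Helper78.HeightZero
import Cfsg.Agent.Lib.Helper78.ClassAlg
import Cfsg.Agent.Lib.Helper80.Constituent
import Cfsg.Agent.Lib.Helper80.Linear
import Cfsg.Agent.Lib.Helper80.CoreDvd
import Cfsg.Agent.Lib.Helper76.CharIrr

/-!
# Height zero characters have linear constituents on defect groups (helper76)
-/

set_option autoImplicit false

namespace Cfsg.Agent.Lib.Helper76

open Cfsg Cfsg.Agent.Lib.Helper78 Cfsg.Agent.Lib.Helper80 Cfsg.Agent.Lib.Helper74
open scoped ComplexConjugate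

universe u

/-- If `z` acts on `Φ` by the scalar `c` and on a constituent `ξ` by the scalar `d` of absolute
value one then `c = d`. -/
theorem scalar_eq_of_constituent {H : Type*} [Group H] [Fintype H] {Φ ξ : H → ℂ} {z : H} {c d : ℂ}
    (hΦ : ∀ h, Φ (z * h) = c * Φ h) (hξ : ∀ h, ξ (z * h) = d * ξ h) (hd : d * conj d = 1)
    (hne : classInner Φ ξ ≠ 0) : c = d := by
  have h1 : classInner Φ ξ = (c * conj d) * classInner Φ ξ := by
    unfold classInner
    have h0 : ∑ h, Φ h * conj (ξ h) = (c * conj d) * ∑ h, Φ h * conj (ξ h) := by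
      conv_lhs => rw [← Equiv.sum_comp (Equiv.mulLeft z) (fun h => Φ h * conj (ξ h))]
      simp only [Equiv.coe_mulLeft, hΦ, hξ, map_mul]
      rw [Finset.mul_sum]
      apply Finset.sum_congr rfl
      intro h _
      ring
    rw [mul_left_comm, ← h0]
  have h2 : c * conj d = 1 := by
    have : (c * conj d - 1) * classInner Φ ξ = 0 := by
      rw [sub_mul, one_mul, ← h1, sub_self]
    rcases mul_eq_zero.mp this with h | h
    · exact sub_eq_zero.mp h
    · exact absurd h hne
  calc c = c * (d * conj d) := by rw [hd, mul_one]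
    _ = (c * conj d) * d := by ring
    _ = d := by rw [h2, one_mul]

/-- A character not in the local ideal at a central element has a constituent of degree prime to
`p`. -/
theorem exists_constituent_not_dvd {H : Type*} [Group H] [Fintype H] {p : ℕ} {M : Ideal AlgInt}
    (hM : IsPModular p M) {Φ : H → ℂ} (hΦ : IsCharacter H Φ) {g : H}
    (hg : g ∈ Subgroup.center H) (hu : ¬ MemLocalIdeal M (Φ g)) :
    ∃ ξ : IrrCharacter H, classInner Φ (ξ : H → ℂ) ≠ 0 ∧ ¬ p ∣ charDegree (ξ : H → ℂ) := by
  have hMp := pmod_isPrime hM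
  by_contra hcon
  push Not at hcon
  obtain ⟨m, hm, hsum, -⟩ := exists_mult_spec hΦ
  apply hu
  rw [hsum, Finset.sum_apply]
  apply MemLocalIdeal.sum hMp
  intro ξ _
  rw [Pi.smul_apply, smul_eq_mul]
  by_cases h0 : m ξ = 0
  · rw [h0]; simpa using memLocalIdeal_zero hMp
  have hdvd := hcon ξ (by rw [hm]; exact_mod_cast h0)
  have hidx : (Subgroup.centralizer ({g} : Set H)).index = 1 := by
    rw [Subgroup.index_eq_one, eq_top_iff]
    intro x _
    rw [Subgroup.mem_centralizer_singleton_iff]
    exact (Subgroup.mem_center_iff.mp hg x)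
  have hξ1 : (ξ : H → ℂ) 1 ≠ 0 := char_one_ne_zero_of_irr ξ.2
  have hval : (ξ : H → ℂ) g = (charDegree (ξ : H → ℂ) : ℂ) * centralChar (ξ : H → ℂ) g := by
    unfold centralChar
    rw [hidx, ← char_one_eq_charDegree (isCharacter_of_irr ξ.2)]
    field_simp
    simp
  rw [hval]
  apply MemLocalIdeal.mul_left hMp (memLocalRing_natCast hMp _)
  apply MemLocalIdeal.mul_right hMp ((memLocalIdeal_natCast_iff hM _).mpr hdvd)
  exact memLocalRing_of_isIntegral hMp (isIntegral_centralChar ξ.2 g)

/-- A character of degree prime to `p` of a `p`-group has a linear constituent. -/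
theorem exists_linear_constituent {P : Type*} [Group P] [Fintype P] {p : ℕ} [Fact p.Prime]
    (hP : IsPGroup p P) {Φ : P → ℂ} (hΦ : IsCharacter P Φ) (hdeg : ¬ p ∣ charDegree Φ) :
    ∃ μ : IrrCharacter P, classInner Φ (μ : P → ℂ) ≠ 0 ∧ charDegree (μ : P → ℂ) = 1 := by
  have hp : p.Prime := Fact.out
  by_contra hcon
  push Not at hcon
  obtain ⟨m, hm, -, hsum⟩ := exists_mult_spec hΦ
  apply hdeg
  rw [hsum]
  apply Finset.dvd_sum
  intro μ _
  by_cases h0 : m μ = 0
  · rw [h0, zero_mul]; exact dvd_zero _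
  have hne := hcon μ (by rw [hm]; exact_mod_cast h0)
  obtain ⟨k, hk⟩ := IsPGroup.iff_card.mp hP
  have h1 := charDegree_dvd_card μ
  rw [hk] at h1
  obtain ⟨j, -, hj⟩ := (Nat.dvd_prime_pow hp).mp h1
  have hj0 : j ≠ 0 := by
    rintro rfl
    exact hne (by simpa using hj)
  exact Dvd.dvd.mul_left (hj ▸ dvd_pow_self p hj0) _

theorem hom_mul_conj_eq_one {X : Type*} [Group X] [Finite X] (f : X →* ℂˣ) (x : X) :
    ((f x : ℂˣ) : ℂ) * conj ((f x : ℂˣ) : ℂ) = 1 := by
  have h1 : ((f x : ℂˣ) : ℂ) ^ Nat.card X = 1 := by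
    rw [← Units.val_pow_eq_pow_val, ← map_pow, pow_card_eq_one', map_one, Units.val_one]
  have h2 := Complex.norm_eq_one_of_pow_eq_one h1 Nat.card_pos.ne'
  rw [Complex.mul_conj, Complex.normSq_eq_norm_sq, h2]
  simp

/-- A height zero character has, on a Sylow `p`-subgroup `P` of the centralizer `C` of a defect
class element, a linear constituent (through a constituent on `C`). -/
theorem exists_linear_of_height_zero {G : Type u} [Group G] [Fintype G] {p : ℕ} [Fact p.Prime]
    {M : Ideal AlgInt} (hM : IsPModular p M) {B : Set (IrrCharacter G)} (hB : IsPBlock M B)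
    {g : G} (hg : IsDefectClass M B g) (P : Sylow p (Subgroup.centralizer ({g} : Set G)))
    [Fintype (Subgroup.centralizer ({g} : Set G))]
    [Fintype (P : Subgroup (Subgroup.centralizer ({g} : Set G)))]
    {χ : IrrCharacter G} (hχ : χ ∈ B) (h0 : blockHeight p B (χ : G → ℂ) = 0) :
    ∃ (ξ : IrrCharacter (Subgroup.centralizer ({g} : Set G)))
      (μ : IrrCharacter (P : Subgroup (Subgroup.centralizer ({g} : Set G)))),
      classInner (fun c : Subgroup.centralizer ({g} : Set G) => (χ : G → ℂ) c) ξ.1 ≠ 0 ∧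
      classInner (fun c : (P : Subgroup (Subgroup.centralizer ({g} : Set G))) => ξ.1 c)
        μ.1 ≠ 0 ∧ charDegree μ.1 = 1 := by
  have hu : ¬ MemLocalIdeal M ((χ : G → ℂ) g) := by
    have := not_memLocalIdeal_height_zero hM hB hg hχ h0 (x := 1) (Commute.one_left g) (k := 0)
      (by simp)
    rwa [one_mul] at this
  have hgC : g ∈ Subgroup.centralizer ({g} : Set G) := by
    rw [Subgroup.mem_centralizer_singleton_iff]
  have hgc : (⟨g, hgC⟩ : Subgroup.centralizer ({g} : Set G)) ∈
      Subgroup.center (Subgroup.centralizer ({g} : Set G)) := by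
    rw [Subgroup.mem_center_iff]
    intro x
    apply Subtype.ext
    have := Subgroup.mem_centralizer_singleton_iff.mp x.2
    exact this
  obtain ⟨ξ, hξ, hξd⟩ := exists_constituent_not_dvd hM
    (IsCharacter.restrict (isCharacter_of_irr χ.2) (Subgroup.centralizer ({g} : Set G))) hgc hu
  obtain ⟨μ, hμ, hμd⟩ := exists_linear_constituent P.2
    (IsCharacter.restrict (isCharacter_of_irr ξ.2)
      (P : Subgroup (Subgroup.centralizer ({g} : Set G)))) hξd
  exact ⟨ξ, μ, hξ, hμ, hμd⟩

end Cfsg.Agent.Lib.Helper76
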