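import Cfsg.Agent.Lib.Helper62.Bender2

/-!
# Thompson–Wielandt, part A: relative cores, the `p'`-element lemma and the key vanishing lemma
-/

set_option autoImplicit false

namespace Cfsg.Agent.Lib.Helper76.TW

open Cfsg Cfsg.Agent.Lib.Helper62

variable {G : Type*} [Group G]

/-- The core of `D ⊓ M` in `M`, viewed in the ambient group. -/
def rcore (M D : Subgroup G) : Subgroup G := (D.subgroupOf M).normalCore.map M.subtype

theorem mem_rcore {M D : Subgroup G} {x : G} :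
    x ∈ rcore M D ↔ x ∈ M ∧ ∀ h ∈ M, h * x * h⁻¹ ∈ D := by
  constructor
  · rintro ⟨y, hy, rfl⟩
    refine ⟨y.2, fun h hh => ?_⟩
    have := hy ⟨h, hh⟩
    exact Subgroup.mem_subgroupOf.mp this
  · rintro ⟨hx, h⟩
    refine ⟨⟨x, hx⟩, ?_, rfl⟩
    intro b
    exact Subgroup.mem_subgroupOf.mpr (h b b.2)

theorem rcore_le_left (M D : Subgroup G) : rcore M D ≤ M := fun _ hx => (mem_rcore.mp hx).1

theorem rcore_le_right (M D : Subgroup G) : rcore M D ≤ D := fun x hx => by
  have := (mem_rcore.mp hx).2 1 (one_mem _)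
  simpa using this

theorem le_normalizer_rcore (M D : Subgroup G) :
    M ≤ Subgroup.normalizer (rcore M D : Set G) :=
  le_normalizer_map_subtype_of_normal _

theorem le_rcore {M D N : Subgroup G} (hNM : N ≤ M) (hND : N ≤ D)
    (hn : M ≤ Subgroup.normalizer (N : Set G)) : N ≤ rcore M D := by
  intro x hx
  refine mem_rcore.mpr ⟨hNM hx, fun h hh => hND ?_⟩
  exact (Subgroup.mem_normalizer_iff.mp (hn hh) x).mp hx

/-- first core -/
def c1 (M M' : Subgroup G) : Subgroup G := rcore M (M ⊓ M')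

/-- second core -/
def c2 (M M' : Subgroup G) : Subgroup G := rcore M (c1 M M' ⊓ c1 M' M)

theorem c1_le_left (M M' : Subgroup G) : c1 M M' ≤ M := rcore_le_left _ _
theorem c1_le_right (M M' : Subgroup G) : c1 M M' ≤ M' := (rcore_le_right _ _).trans inf_le_right
theorem le_normalizer_c1 (M M' : Subgroup G) : M ≤ Subgroup.normalizer (c1 M M' : Set G) :=
  le_normalizer_rcore _ _
theorem c2_le_c1 (M M' : Subgroup G) : c2 M M' ≤ c1 M M' := (rcore_le_right _ _).trans inf_le_left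
theorem c2_le_c1' (M M' : Subgroup G) : c2 M M' ≤ c1 M' M := (rcore_le_right _ _).trans inf_le_right
theorem c2_le_left (M M' : Subgroup G) : c2 M M' ≤ M := rcore_le_left _ _
theorem c2_le_right (M M' : Subgroup G) : c2 M M' ≤ M' := (c2_le_c1 M M').trans (c1_le_right M M')
theorem le_normalizer_c2 (M M' : Subgroup G) : M ≤ Subgroup.normalizer (c2 M M' : Set G) :=
  le_normalizer_rcore _ _

theorem le_c1 {M M' N : Subgroup G} (hNM : N ≤ M) (hNM' : N ≤ M')
    (hn : M ≤ Subgroup.normalizer (N : Set G)) : N ≤ c1 M M' :=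
  le_rcore hNM (le_inf hNM hNM') hn

/-- the subgroup generated by the `p'`-elements of `B` -/
def pp (p : ℕ) (B : Subgroup G) : Subgroup G :=
  Subgroup.closure {b : G | b ∈ B ∧ (orderOf b).Coprime p}

theorem pp_le (p : ℕ) (B : Subgroup G) : pp p B ≤ B :=
  (Subgroup.closure_le _).mpr fun _ hb => hb.1

theorem orderOf_conj' (u b : G) : orderOf (u * b * u⁻¹) = orderOf b := by
  have := (MulAut.conj u).orderOf_eq b
  simpa [MulAut.conj_apply] using this

theorem normalizer_le_normalizer_pp (p : ℕ) (B : Subgroup G) :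
    Subgroup.normalizer (B : Set G) ≤ Subgroup.normalizer (pp p B : Set G) := by
  apply le_normalizer_closure_of_stable
  rintro m hm y ⟨hy, hc⟩
  refine ⟨(Subgroup.mem_normalizer_iff.mp hm y).mp hy, ?_⟩
  rw [orderOf_conj']
  exact hc

theorem isPGroup_of_pp_eq_bot [Finite G] {p : ℕ} [hp : Fact p.Prime] {B : Subgroup G}
    (h : pp p B = ⊥) : IsPGroup p ↥B := by
  intro g
  have hn : orderOf (g : G) ≠ 0 := (orderOf_pos _).ne'
  obtain ⟨k, m, hm, hkm⟩ := Nat.exists_eq_pow_mul_and_not_dvd hn p hp.out.ne_one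
  refine ⟨k, ?_⟩
  have h1 : orderOf ((g : G) ^ (p ^ k)) = m := by
    rw [orderOf_pow_of_dvd (pow_ne_zero _ hp.out.ne_zero) ⟨m, hkm⟩, hkm,
      Nat.mul_div_cancel_left _ (pow_pos hp.out.pos _)]
  have h2 : (g : G) ^ (p ^ k) ∈ pp p B := by
    apply Subgroup.subset_closure
    refine ⟨B.pow_mem g.2 _, ?_⟩
    rw [h1]
    exact ((Nat.Prime.coprime_iff_not_dvd hp.out).mpr hm).symm
  rw [h, Subgroup.mem_bot] at h2
  exact Subtype.ext (by simpa using h2)

/-- The `p'`-element lemma. -/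
theorem le_normalizer_pp [Finite G] {p : ℕ} [hp : Fact p.Prime] {A B U : Subgroup G} (hBA : B ≤ A)
    (hAB : A ≤ Subgroup.normalizer (B : Set G)) (hU : IsPGroup p ↥U)
    (hUA : U ≤ Subgroup.normalizer (A : Set G)) (hAU : A ≤ Subgroup.normalizer (U : Set G)) :
    U ≤ Subgroup.normalizer (pp p B : Set G) := by
  apply le_normalizer_closure_of_stable
  rintro u hu b ⟨hb, hc⟩
  refine ⟨?_, by rw [orderOf_conj']; exact hc⟩
  have hbA : b ∈ A := hBA hb
  have hxA : u * b * u⁻¹ ∈ A := (Subgroup.mem_normalizer_iff.mp (hUA hu) b).mp hbA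
  have hcU : u * b * u⁻¹ * b⁻¹ ∈ U := by
    have h1 : b * u⁻¹ * b⁻¹ ∈ U := (Subgroup.mem_normalizer_iff.mp (hAU hbA) u⁻¹).mp (U.inv_mem hu)
    have h2 := U.mul_mem hu h1
    have h3 : u * (b * u⁻¹ * b⁻¹) = u * b * u⁻¹ * b⁻¹ := by group
    rwa [h3] at h2
  have hcA : u * b * u⁻¹ * b⁻¹ ∈ A := A.mul_mem hxA (A.inv_mem hbA)
  have hBn : (B.subgroupOf A).Normal := (Subgroup.normal_subgroupOf_iff_le_normalizer hBA).mpr hAB
  obtain ⟨k, hk⟩ := hU ⟨_, hcU⟩
  have hk' : (u * b * u⁻¹ * b⁻¹) ^ (p ^ k) = 1 := by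
    have := congrArg Subtype.val hk
    simpa using this
  set π := QuotientGroup.mk' (B.subgroupOf A) with hπ
  have hπb : π ⟨b, hbA⟩ = 1 := by
    rw [hπ, QuotientGroup.mk'_apply, QuotientGroup.eq_one_iff]
    exact Subgroup.mem_subgroupOf.mpr hb
  have hxc : π ⟨u * b * u⁻¹, hxA⟩ = π ⟨u * b * u⁻¹ * b⁻¹, hcA⟩ := by
    have : (⟨u * b * u⁻¹, hxA⟩ : ↥A) = ⟨u * b * u⁻¹ * b⁻¹, hcA⟩ * ⟨b, hbA⟩ := by
      apply Subtype.ext
      simp
    rw [this, map_mul, hπb, mul_one]
  have h1 : (π ⟨u * b * u⁻¹, hxA⟩) ^ (p ^ k) = 1 := by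
    rw [hxc, ← map_pow]
    have : (⟨u * b * u⁻¹ * b⁻¹, hcA⟩ : ↥A) ^ (p ^ k) = 1 := Subtype.ext (by simpa using hk')
    rw [this, map_one]
  have h2 : (π ⟨u * b * u⁻¹, hxA⟩) ^ (orderOf b) = 1 := by
    rw [← map_pow]
    have : (⟨u * b * u⁻¹, hxA⟩ : ↥A) ^ (orderOf b) = 1 := by
      apply Subtype.ext
      have h3 : (u * b * u⁻¹) ^ orderOf b = 1 := by
        rw [← orderOf_conj' u b]; exact pow_orderOf_eq_one _
      simp [h3]
    rw [this, map_one]
  have h3 := pow_gcd_eq_one.mpr ⟨h2, h1⟩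
  rw [Nat.Coprime.pow_right k hc, pow_one, hπ, QuotientGroup.mk'_apply,
    QuotientGroup.eq_one_iff] at h3
  exact Subgroup.mem_subgroupOf.mp h3

/-- two distinct conjugate core-free maximal subgroups -/
structure Pair (M₁ M₂ : Subgroup G) : Prop where
  max₁ : IsCoatom M₁
  max₂ : IsCoatom M₂
  core₁ : M₁.normalCore = ⊥
  core₂ : M₂.normalCore = ⊥
  ne : M₁ ≠ M₂
  conj : ∃ g : G, M₂ = M₁.map (MulAut.conj g).toMonoidHom

theorem Pair.symm {M₁ M₂ : Subgroup G} (h : Pair M₁ M₂) : Pair M₂ M₁ where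
  max₁ := h.max₂
  max₂ := h.max₁
  core₁ := h.core₂
  core₂ := h.core₁
  ne := h.ne.symm
  conj := by
    obtain ⟨g, hg⟩ := h.conj
    refine ⟨g⁻¹, ?_⟩
    rw [hg, map_conj_inv_map_conj]

theorem normalizer_eq {M N : Subgroup G} (hmax : IsCoatom M) (hcore : M.normalCore = ⊥)
    (hNM : N ≤ M) (hN : N ≠ ⊥) (hn : M ≤ Subgroup.normalizer (N : Set G)) :
    Subgroup.normalizer (N : Set G) = M := by
  rcases hmax.le_iff.mp hn with h | h
  · exfalso
    have hnorm : N.Normal := Subgroup.normalizer_eq_top_iff.mp h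
    have : N ≤ M.normalCore := Subgroup.normal_le_normalCore.mpr hNM
    rw [hcore] at this
    exact hN (eq_bot_iff.mpr this)
  · exact h

theorem Pair.not_le {M₁ M₂ : Subgroup G} (h : Pair M₁ M₂) : ¬ M₂ ≤ M₁ := by
  intro hle
  rcases h.max₂.le_iff.mp hle with h1 | h1
  · exact h.max₁.1 h1
  · exact h.ne h1

/-- ambient `O_p` -/
abbrev Qp (p : ℕ) (M : Subgroup G) : Subgroup G := (pCore p ↥M).map M.subtype

theorem Pair.card_Qp {M₁ M₂ : Subgroup G} (h : Pair M₁ M₂) (p : ℕ) :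
    Nat.card ↥(Qp p M₂) = Nat.card ↥(Qp p M₁) := by
  obtain ⟨g, hg⟩ := h.conj
  have h1 := pCore_map_subtype_map_equiv p (MulAut.conj g) M₁
  have h2 : Qp p M₂ = (Qp p M₁).map (MulAut.conj g).toMonoidHom := by
    rw [h1, hg]
  rw [h2, Subgroup.card_map_of_injective (MulAut.conj g).injective]

theorem Pair.Qp_eq_bot_iff {M₁ M₂ : Subgroup G} (h : Pair M₁ M₂) (p : ℕ) :
    Qp p M₂ = ⊥ ↔ Qp p M₁ = ⊥ := by
  rw [← Subgroup.card_eq_one, ← Subgroup.card_eq_one, h.card_Qp]

/-- `O_p` of a subgroup normalized by `M` lies in `O_p(M)`. -/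
theorem Qp_le_Qp {p : ℕ} {A M : Subgroup G} (hAM : A ≤ M)
    (hn : M ≤ Subgroup.normalizer (A : Set G)) : Qp p A ≤ Qp p M :=
  le_pCore_map_subtype ((pCore_map_subtype_le p A).trans hAM)
    (hn.trans (normalizer_le_normalizer_pCore p A)) (pCore_map_subtype_isPGroup p A)

/-- **Key lemma.**  If `c2 M' M` is not a `p`-group then `O_p(M) = 1`. -/
theorem Pair.Qp_eq_bot [Finite G] {M M' : Subgroup G} (h : Pair M M') {p : ℕ} [hp : Fact p.Prime]
    (hB : ¬ IsPGroup p ↥(c2 M' M)) : Qp p M = ⊥ := by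
  by_contra hQ
  set A₁ := c1 M M' with hA₁
  set B₂ := c2 M' M with hB₂
  set S := pp p B₂ with hS
  have hS0 : S ≠ ⊥ := fun h0 => hB (isPGroup_of_pp_eq_bot h0)
  have hSN : Subgroup.normalizer (S : Set G) = M' :=
    normalizer_eq h.max₂ h.core₂ ((pp_le p B₂).trans (c2_le_left M' M)) hS0
      ((le_normalizer_c2 M' M).trans (normalizer_le_normalizer_pp p B₂))
  have hBA : B₂ ≤ A₁ := c2_le_c1' M' M
  have hAB : A₁ ≤ Subgroup.normalizer (B₂ : Set G) := (c1_le_right M M').trans (le_normalizer_c2 M' M)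
  have key : ∀ U : Subgroup G, IsPGroup p ↥U → U ≤ M → A₁ ≤ Subgroup.normalizer (U : Set G) →
      U ≤ M' := by
    intro U hU hUM hAU
    have := le_normalizer_pp hBA hAB hU (hUM.trans (le_normalizer_c1 M M')) hAU
    rwa [← hS, hSN] at this
  -- (i)
  have hQM' : Qp p M ≤ M' := key _ (pCore_map_subtype_isPGroup p M) (pCore_map_subtype_le p M)
    ((c1_le_left M M').trans (le_normalizer_pCore p M))
  -- (ii)
  have hR : Qp p M' ⊓ M ≤ A₁ := by
    intro x hx
    refine mem_rcore.mpr ⟨hx.2, fun m hm => ⟨M.mul_mem (M.mul_mem hm hx.2) (M.inv_mem hm), ?_⟩⟩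
    set U : Subgroup G := (Qp p M').map (MulAut.conj m).toMonoidHom ⊓ M with hUdef
    have hU : IsPGroup p ↥U :=
      ((pCore_map_subtype_isPGroup p M').map (MulAut.conj m).toMonoidHom).to_le inf_le_left
    have hAU : A₁ ≤ Subgroup.normalizer (U : Set G) := by
      refine le_trans (le_inf ?_ ((c1_le_left M M').trans Subgroup.le_normalizer))
        (Subgroup.inf_normalizer_le_normalizer_inf)
      rw [normalizer_map_conj]
      intro a ha
      refine ⟨m⁻¹ * a * m, ?_, ?_⟩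
      · apply le_normalizer_pCore p M'
        apply c1_le_right M M'
        have := (Subgroup.mem_normalizer_iff.mp (le_normalizer_c1 M M' (M.inv_mem hm)) a).mp ha
        simpa using this
      · simp [MulAut.conj_apply, mul_assoc]
    apply key U hU inf_le_right hAU
    exact ⟨⟨x, hx.1, by simp [MulAut.conj_apply]⟩, M.mul_mem (M.mul_mem hm hx.2) (M.inv_mem hm)⟩
  -- (iii)
  have hRQ : Qp p M' ⊓ M ≤ Qp p M := by
    have h1 : Qp p M' ⊓ M ≤ Qp p A₁ := by
      apply le_pCore_map_subtype hR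
      · refine le_trans (le_inf ((c1_le_right M M').trans (le_normalizer_pCore p M'))
          ((c1_le_left M M').trans Subgroup.le_normalizer)) Subgroup.inf_normalizer_le_normalizer_inf
      · exact (pCore_map_subtype_isPGroup p M').to_le inf_le_left
    exact h1.trans (Qp_le_Qp (c1_le_left M M') (le_normalizer_c1 M M'))
  -- (iv)
  have hQN : Subgroup.normalizer (Qp p M : Set G) = M :=
    normalizer_eq h.max₁ h.core₁ (pCore_map_subtype_le p M) hQ (le_normalizer_pCore p M)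
  have hQn' : Qp p M ≤ Subgroup.normalizer (Qp p M' : Set G) := hQM'.trans (le_normalizer_pCore p M')
  have hT : IsPGroup p ↥(Qp p M ⊔ Qp p M') :=
    (pCore_map_subtype_isPGroup p M).to_sup_of_normal_right' (pCore_map_subtype_isPGroup p M') hQn'
  have hle : Qp p M' ≤ Qp p M := by
    by_contra hnle
    have hlt : Qp p M < Qp p M ⊔ Qp p M' := by
      refine lt_of_le_of_ne le_sup_left fun heq => hnle ?_
      rw [heq]; exact le_sup_right
    obtain ⟨x, hx, hxN, hxQ⟩ := exists_mem_normalizer_not_mem hT hlt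
    rw [hQN] at hxN
    have hx' : x ∈ ((Qp p M ⊔ Qp p M' : Subgroup G) : Set G) := hx
    rw [Subgroup.coe_mul_of_left_le_normalizer_right _ _ hQn'] at hx'
    obtain ⟨a, ha, b, hb, rfl⟩ := hx'
    apply hxQ
    refine (Qp p M).mul_mem ha (hRQ ⟨hb, ?_⟩)
    have haM : a ∈ M := pCore_map_subtype_le p M ha
    have := M.mul_mem (M.inv_mem haM) hxN
    simpa using this
  have heq : Qp p M' = Qp p M := by
    have : Finite ↥(Qp p M) := inferInstance
    exact Subgroup.eq_of_le_of_card_ge hle (h.card_Qp p).ge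
  apply h.not_le
  calc M' ≤ Subgroup.normalizer (Qp p M' : Set G) := le_normalizer_pCore p M'
    _ = M := by rw [heq, hQN]

end Cfsg.Agent.Lib.Helper76.TW
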