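import Cfsg.Agent.Lib.Helper76.TWa
import Cfsg.Agent.Lib.Helper24.PGroup
import Cfsg.Agent.Lib.Helper31.CharP2
import Cfsg.Agent.Lib.Helper31.LocalLayer3

/-!
# Thompson–Wielandt, part B: the layer is trivial, and the main theorem
-/

set_option autoImplicit false

namespace Cfsg.Agent.Lib.Helper76.TW

open Cfsg Cfsg.Agent.Lib.Helper62 Cfsg.Agent.Lib.Helper31

variable {G : Type*} [Group G]

/-- ambient layer -/
abbrev Es (M : Subgroup G) : Subgroup G := (layer ↥M).map M.subtype

theorem le_normalizer_Es (M : Subgroup G) : M ≤ Subgroup.normalizer (Es M : Set G) :=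
  have : (layer ↥M).Normal := Cfsg.Agent.Lib.Helper23.layer_normal _
  le_normalizer_map_subtype_of_normal _

theorem comp_centralizes {M : Subgroup G} {K : Subgroup ↥M} (hK : IsComponent K) {R : Subgroup G}
    (hRM : R ≤ M) (hsolv : Group.IsSolvable ↥R)
    (hn : K.map M.subtype ≤ Subgroup.normalizer (R : Set G)) :
    K.map M.subtype ≤ Subgroup.centralizer (R : Set G) := by
  have hs : Group.IsSolvable ↥(R.subgroupOf M) :=
    Group.isSolvable_of_isSolvable_injective (f := (Subgroup.subgroupOfEquivOfLe hRM).toMonoidHom)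
      (Subgroup.subgroupOfEquivOfLe hRM).injective
  have hinv : K ≤ Subgroup.normalizer (R.subgroupOf M : Set ↥M) := by
    rw [← Subgroup.subgroupOf_normalizer_eq hRM]
    intro k hk
    exact Subgroup.mem_subgroupOf.mpr (hn ⟨k, hk, rfl⟩)
  have h := IsComponent.commutator_eq_bot_of_isSolvable hK hs hinv
  rw [Subgroup.commutator_eq_bot_iff_le_centralizer] at h
  rintro _ ⟨k, hk, rfl⟩
  rw [Subgroup.mem_centralizer_iff]
  intro r hr
  have := Subgroup.mem_centralizer_iff.mp (h hk) ⟨r, hRM hr⟩ (Subgroup.mem_subgroupOf.mpr hr)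
  exact congrArg Subtype.val this

/-- If `c2 M M' ≠ 1` then `E(M') ≤ M`. -/
theorem Pair.Es_le {M M' : Subgroup G} (h : Pair M M') (hA : c2 M M' ≠ ⊥) : Es M' ≤ M := by
  have hN : Subgroup.normalizer (c2 M M' : Set G) = M :=
    normalizer_eq h.max₁ h.core₁ (c2_le_left M M') hA (le_normalizer_c2 M M')
  have hsub : SubnIn (c2 M M') M' :=
    (SubnIn.of_normal (c2_le_c1' M M') ((c1_le_right M' M).trans (le_normalizer_c2 M M'))).trans
      (SubnIn.of_normal (c1_le_left M' M) (le_normalizer_c1 M' M))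
  have h1 := layer_le_normalizer_of_isSubnormal hsub.isSubnormal_subgroupOf
  rw [← Subgroup.subgroupOf_normalizer_eq (c2_le_right M M'), hN] at h1
  rintro _ ⟨x, hx, rfl⟩
  exact Subgroup.mem_subgroupOf.mp (h1 hx)

/-- components of `M` centralize `O_p(M')`. -/
theorem Pair.comp_le_centralizer_Qp [Finite G] {M M' : Subgroup G} (h : Pair M M')
    (hA : c2 M M' ≠ ⊥) (hB : c2 M' M ≠ ⊥) {K : Subgroup ↥M} (hK : IsComponent K)
    (p : ℕ) [hp : Fact p.Prime] :
    K.map M.subtype ≤ Subgroup.centralizer (Qp p M' : Set G) := by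
  set K' : Subgroup G := K.map M.subtype with hK'
  by_cases hQ : Qp p M' = ⊥
  · rw [hQ]
    intro x _
    rw [Subgroup.mem_centralizer_iff]
    intro y hy
    rw [SetLike.mem_coe, Subgroup.mem_bot] at hy
    rw [hy, one_mul, mul_one]
  have hKM : K' ≤ M := Subgroup.map_subtype_le _
  have hKM' : K' ≤ M' := (Subgroup.map_mono (IsComponent.le_layer hK)).trans (h.symm.Es_le hB)
  set X := c2 M M' with hX
  have hXp : IsPGroup p ↥X := by
    by_contra hn
    exact hQ (h.symm.Qp_eq_bot hn)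
  have hXN : Subgroup.normalizer (X : Set G) = M :=
    normalizer_eq h.max₁ h.core₁ (c2_le_left M M') hA (le_normalizer_c2 M M')
  have hsolv : ∀ R : Subgroup G, IsPGroup p ↥R → Group.IsSolvable ↥R := by
    intro R hR
    have : Group.IsNilpotent ↥R := hR.isNilpotent
    infer_instance
  have hKX : K' ≤ Subgroup.centralizer (X : Set G) :=
    comp_centralizes hK (c2_le_left M M') (hsolv _ hXp) (hKM.trans (le_normalizer_c2 M M'))
  have hKR : K' ≤ Subgroup.centralizer ((Qp p M' ⊓ M : Subgroup G) : Set G) := by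
    apply comp_centralizes hK inf_le_right
      (hsolv _ ((pCore_map_subtype_isPGroup p M').to_le inf_le_left))
    exact le_trans (le_inf (hKM'.trans (le_normalizer_pCore p M')) (hKM.trans Subgroup.le_normalizer))
      Subgroup.inf_normalizer_le_normalizer_inf
  have hperf : ⁅K', K'⁆ = K' := by
    rw [hK', ← Subgroup.map_commutator, IsComponent.perfect hK]
  refine (le_closure_coprime_of_perfect p hperf).trans ?_
  rw [Subgroup.closure_le]
  rintro l ⟨hl, hc⟩
  have hz : Subgroup.zpowers l ≤ K' := by rwa [Subgroup.zpowers_le]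
  have := Cfsg.Agent.Lib.Helper24.thompson_AxB p (Subgroup.zpowers l) X (Qp p M')
    (pCore_map_subtype_isPGroup p M') hXp (by rw [Nat.card_zpowers]; exact hc) (hz.trans hKX)
    (hz.trans (hKM'.trans (le_normalizer_pCore p M')))
    ((c2_le_right M M').trans (le_normalizer_pCore p M')) (by
      rintro x ⟨hx1, hx2⟩
      have hxM : x ∈ M := by
        rw [← hXN]; exact centralizer_le_normalizer' X hx2
      have h1 : (Qp p M' ⊓ M : Subgroup G) ≤ Subgroup.centralizer (K' : Set G) :=
        Subgroup.le_centralizer_iff.mp hKR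
      exact Subgroup.centralizer_le (by exact_mod_cast hz) (h1 ⟨hx1, hxM⟩))
  exact Subgroup.le_centralizer_iff.mp this (Subgroup.mem_zpowers l)

theorem Pair.Es_le_Es [Finite G] {M M' : Subgroup G} (h : Pair M M')
    (hA : c2 M M' ≠ ⊥) (hB : c2 M' M ≠ ⊥) : Es M ≤ Es M' := by
  rw [Subgroup.map_le_iff_le_comap]
  apply sSup_le
  intro K hK
  rw [← Subgroup.map_le_iff_le_comap]
  set K' : Subgroup G := K.map M.subtype with hK'
  have hsub : SubnIn K' M := subnIn_of_isSubnormal hK.1
  have hq : IsQuasisimple ↥K' :=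
    IsQuasisimple.of_mulEquiv hK.2 (K.equivMapOfInjective M.subtype M.subtype_injective)
  have hKM' : K' ≤ M' := (Subgroup.map_mono (IsComponent.le_layer hK)).trans (h.symm.Es_le hB)
  have hED : Es M' ≤ M ⊓ M' := le_inf (h.Es_le hA) (Subgroup.map_subtype_le _)
  have hsubD : SubnIn K' (M ⊓ M') := hsub.restrict (le_inf hsub.le hKM') inf_le_left
  have hcomp : IsComponent (K'.subgroupOf (M ⊓ M')) := isComponent_subgroupOf_of_subnIn hsubD hq
  have hEn : ((Es M').subgroupOf (M ⊓ M')).Normal :=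
    (Subgroup.normal_subgroupOf_iff_le_normalizer hED).mpr (inf_le_right.trans (le_normalizer_Es M'))
  obtain ⟨hperf, hne, -⟩ := isQuasisimple_subgroup_iff.mp hq
  rcases IsComponent.le_or_commutator_eq_bot hcomp hEn.isSubnormal with h1 | h1
  · intro x hx
    exact h1 (show (⟨x, hsubD.le hx⟩ : ↥(M ⊓ M')) ∈ K'.subgroupOf (M ⊓ M') from hx)
  · exfalso
    rw [← subgroupOf_commutator hsubD.le hED, Subgroup.subgroupOf_eq_bot,
      disjoint_iff, inf_eq_left.mpr ((Subgroup.commutator_mono hsubD.le hED).trans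
        (Subgroup.commutator_le_self _))] at h1
    have hcE : K' ≤ Subgroup.centralizer (Es M' : Set G) :=
      Subgroup.commutator_eq_bot_iff_le_centralizer.mp h1
    have hcF : K' ≤ Subgroup.centralizer (((fittingSubgroup ↥M').map M'.subtype : Subgroup G) : Set G) := by
      rw [Subgroup.le_centralizer_iff, Cfsg.Agent.Lib.Helper1.fittingSubgroup_eq_iSup_pCore,
        Subgroup.map_iSup]
      refine iSup_le fun p => ?_
      have : Fact (p : ℕ).Prime := ⟨p.2⟩
      exact Subgroup.le_centralizer_iff.mp (h.comp_le_centralizer_Qp hA hB hK p)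
    have hc : K' ≤ Subgroup.centralizer (Fs M' : Set G) := by
      rw [Subgroup.le_centralizer_iff]
      unfold Fs generalizedFittingSubgroup
      rw [Subgroup.map_sup]
      exact sup_le (Subgroup.le_centralizer_iff.mp hcE) (Subgroup.le_centralizer_iff.mp hcF)
    have h2 : K' ≤ Fs M' := le_trans (le_inf hKM' hc) (inf_centralizer_Fs_le M')
    apply hne
    rw [← hperf, eq_bot_iff, ← Subgroup.commutator_eq_bot_iff_le_centralizer.mpr hc]
    exact Subgroup.commutator_mono le_rfl h2

theorem Pair.layer_eq_bot [Finite G] {M M' : Subgroup G} (h : Pair M M')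
    (hA : c2 M M' ≠ ⊥) (hB : c2 M' M ≠ ⊥) : layer ↥M = ⊥ := by
  have heq : Es M = Es M' := le_antisymm (h.Es_le_Es hA hB) (h.symm.Es_le_Es hB hA)
  by_contra hne
  have hne' : Es M ≠ ⊥ := fun h0 => hne ((Subgroup.map_eq_bot_iff_of_injective _ M.subtype_injective).mp h0)
  have h1 : Subgroup.normalizer (Es M : Set G) = M :=
    normalizer_eq h.max₁ h.core₁ (Subgroup.map_subtype_le _) hne' (le_normalizer_Es M)
  apply h.not_le
  calc M' ≤ Subgroup.normalizer (Es M' : Set G) := le_normalizer_Es M'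
    _ = M := by rw [← heq, h1]

/-- **Thompson–Wielandt.** -/
theorem Pair.main [Finite G] {M M' : Subgroup G} (h : Pair M M')
    (hA : c2 M M' ≠ ⊥) (hB : c2 M' M ≠ ⊥) :
    ∃ p : ℕ, p.Prime ∧ IsPGroup p ↥(c2 M M') ∧ IsPGroup p ↥(c2 M' M) ∧
      CharPType p ↥M ∧ CharPType p ↥M' := by
  have hl := h.layer_eq_bot hA hB
  have hl' := h.symm.layer_eq_bot hB hA
  have hM : M ≠ ⊥ := fun h0 => hA (eq_bot_iff.mpr ((c2_le_left M M').trans h0.le))
  have hF : fittingSubgroup ↥M ≠ ⊥ := by
    intro h0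
    apply hM
    apply eq_bot_of_Fs_eq_bot
    unfold Fs
    rw [genFitting_eq_fitting_of_layer hl, h0, Subgroup.map_bot]
  have hex : ∃ p : Nat.Primes, pCore (p : ℕ) ↥M ≠ ⊥ := by
    by_contra hn
    push Not at hn
    apply hF
    rw [Cfsg.Agent.Lib.Helper1.fittingSubgroup_eq_iSup_pCore]
    simp [hn]
  obtain ⟨p, hp⟩ := hex
  have hpf : Fact (p : ℕ).Prime := ⟨p.2⟩
  have hQ : Qp (p : ℕ) M ≠ ⊥ := fun h0 =>
    hp ((Subgroup.map_eq_bot_iff_of_injective _ M.subtype_injective).mp h0)
  have hBp : IsPGroup (p : ℕ) ↥(c2 M' M) := by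
    by_contra hn
    exact hQ (h.Qp_eq_bot hn)
  have hAp : IsPGroup (p : ℕ) ↥(c2 M M') := by
    by_contra hn
    exact hQ ((h.Qp_eq_bot_iff p).mp (h.symm.Qp_eq_bot hn))
  have hother : ∀ q : Nat.Primes, q ≠ p → pCore (q : ℕ) ↥M = ⊥ := by
    intro q hq
    have hqf : Fact (q : ℕ).Prime := ⟨q.2⟩
    have : Qp (q : ℕ) M = ⊥ := by
      apply h.Qp_eq_bot
      intro hBq
      apply hB
      rw [← Subgroup.card_eq_one]
      obtain ⟨a, ha⟩ := IsPGroup.iff_card.mp hBp
      obtain ⟨b, hb⟩ := IsPGroup.iff_card.mp hBq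
      have hcop : Nat.Coprime ((p : ℕ) ^ a) ((q : ℕ) ^ b) :=
        Nat.Coprime.pow _ _ ((Nat.coprime_primes p.2 q.2).mpr fun hh => hq (Subtype.ext hh.symm))
      rw [← ha, ← hb] at hcop
      exact Nat.coprime_self _ |>.mp hcop
    exact (Subgroup.map_eq_bot_iff_of_injective _ M.subtype_injective).mp this
  have hchar : CharPType (p : ℕ) ↥M := by
    rw [charPType_iff_genFitting, genFitting_eq_fitting_of_layer hl,
      Cfsg.Agent.Lib.Helper1.fittingSubgroup_eq_iSup_pCore]
    apply le_antisymm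
    · refine iSup_le fun q => ?_
      by_cases hq : q = p
      · rw [hq]
      · rw [hother q hq]; exact bot_le
    · exact le_iSup (fun q : Nat.Primes => pCore (q : ℕ) ↥M) p
  refine ⟨p, p.2, hAp, hBp, hchar, ?_⟩
  obtain ⟨g, hg⟩ := h.conj
  rw [hg]
  exact hchar.congr ((MulAut.conj g).subgroupMap M)

end Cfsg.Agent.Lib.Helper76.TW
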