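import Cfsg.Agent.Lib.Helper76.TWb

/-!
# Thompson–Wielandt, part C: building a `Pair`
-/

set_option autoImplicit false

namespace Cfsg.Agent.Lib.Helper76.TW

open Cfsg Cfsg.Agent.Lib.Helper62 Cfsg.Agent.Lib.Helper31

variable {G : Type*} [Group G]

theorem isCoatom_map_conj {M : Subgroup G} (h : IsCoatom M) (g : G) :
    IsCoatom (M.map (MulAut.conj g).toMonoidHom) :=
  ((MulAut.conj g).mapSubgroup.isCoatom_iff M).mpr h

theorem normalCore_map_conj {M : Subgroup G} (h : M.normalCore = ⊥) (g : G) :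
    (M.map (MulAut.conj g).toMonoidHom).normalCore = ⊥ := by
  rw [eq_bot_iff, ← h]
  intro x hx b
  obtain ⟨y, hy, hyx⟩ := hx (g * b)
  have : y = b * x * b⁻¹ := by
    have h1 : g * y * g⁻¹ = g * b * x * (g * b)⁻¹ := by simpa [MulAut.conj_apply] using hyx
    have h2 : y = g⁻¹ * (g * y * g⁻¹) * g := by group
    rw [h2, h1]; group
  rw [← this]; exact hy

theorem Pair.mk' {M₁ M₂ : Subgroup G} (hmax : IsCoatom M₁) (g : G)
    (hconj : M₂ = M₁.map (MulAut.conj g).toMonoidHom) (hne : M₁ ≠ M₂) (hcore : M₁.normalCore = ⊥) :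
    Pair M₁ M₂ where
  max₁ := hmax
  max₂ := hconj ▸ isCoatom_map_conj hmax g
  core₁ := hcore
  core₂ := hconj ▸ normalCore_map_conj hcore g
  ne := hne
  conj := ⟨g, hconj⟩

end Cfsg.Agent.Lib.Helper76.TW
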